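import Cfsg.Agent.Lib.Char.Table
import Cfsg.Agent.Lib.Char.Induced
import Cfsg.Agent.Lib.Char.Virtual

/-!
# The isotypic part of a function with respect to an invariant character of a normal subgroup

For an injection `ι : N →* X` with normal image and `θ ∈ Irr(N)` invariant in `X`, the operator
`f ↦ θ(1)/|N| ∑ conj θ(n) f(x ι(n))` fixes the irreducible characters over `θ` and kills the others.
-/

set_option autoImplicit false

namespace CfsgLib.RegCone

open Cfsg CfsgLib.Char Representation Module
open scoped ComplexConjugate CfsgLib.Char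

variable {X N : Type*} [Group X] [Finite X] [Group N] [Fintype N] (ι : N →* X) (θ : N → ℂ)

/-- Conjugation in `X` permutes `N` and fixes `θ`. -/
def Stable : Prop := ∀ (x : X) (n : N), ∃ m, ι m = x * ι n * x⁻¹ ∧ θ m = θ n

/-- The isotypic operator. -/
noncomputable def isoPart : (X → ℂ) →ₗ[ℂ] (X → ℂ) where
  toFun f x := θ 1 / (Nat.card N : ℂ) * ∑ n : N, conj (θ n) * f (x * ι n)
  map_add' f g := funext fun x => by
    simp only [Pi.add_apply, mul_add, Finset.sum_add_distrib]
  map_smul' c f := funext fun x => by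
    simp only [Pi.smul_apply, smul_eq_mul, RingHom.id_apply, Finset.mul_sum]
    exact Finset.sum_congr rfl fun n _ => by ring

theorem isoPart_apply (f : X → ℂ) (x : X) :
    isoPart ι θ f x = θ 1 / (Nat.card N : ℂ) * ∑ n : N, conj (θ n) * f (x * ι n) := rfl

theorem stable_id (hθ : IsClassFunction N θ) : Stable (MonoidHom.id N) θ :=
  fun x n => ⟨x * n * x⁻¹, rfl, hθ n x⟩

theorem isoPart_irr_scalar (hinj : Function.Injective ι) (hst : Stable ι θ) {η : X → ℂ}
    (hη : IsIrrCharacter X η) :
    isoPart ι θ η = (θ 1 * classInner (fun n => η (ι n)) θ / η 1) • η := by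
  classical
  obtain ⟨d, ρ, hρ, rfl⟩ := hη
  haveI := hρ
  choose σ hσ hσθ using hst
  set A : (Fin d → ℂ) →ₗ[ℂ] (Fin d → ℂ) := ∑ n : N, conj (θ n) • ρ (ι n)
  have hcomm : ∀ x : X, A ∘ₗ ρ x = ρ x ∘ₗ A := fun x => by
    have hbij : Function.Bijective (σ x) := Finite.injective_iff_bijective.mp fun a b e => hinj (by
      have := congrArg ι e
      rw [hσ, hσ] at this
      simpa using this)
    have e1 : A * ρ x = ρ x * A := by
      simp only [A, Finset.sum_mul, Finset.mul_sum, smul_mul_assoc, mul_smul_comm, ← map_mul]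
      refine (Fintype.sum_bijective (σ x) hbij _ _ fun n => ?_).symm
      rw [hσθ, hσ]; simp
    exact e1
  let T : IntertwiningMap ρ ρ := ⟨A, fun g => hcomm g⟩
  obtain ⟨c, hc⟩ :=
    (IsIrreducible.algebraMap_intertwiningMap_bijective_of_isAlgClosed (ρ := ρ)).2 T
  have hT : A = c • LinearMap.id := by
    rw [show A = T.toLinearMap from rfl, ← hc, Algebra.algebraMap_eq_smul_one]
    rfl
  have htr : LinearMap.trace ℂ _ A = (Nat.card N : ℂ) * classInner (fun n => ρ.character (ι n)) θ := by
    rw [classInner, mul_inv_cancel_left₀ (Nat.cast_ne_zero.mpr Nat.card_pos.ne'), map_sum]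
    exact Finset.sum_congr rfl fun n _ => by rw [map_smul, smul_eq_mul, mul_comm]; rfl
  have hd : ρ.character 1 ≠ 0 := irr_degree_ne_zero ⟨d, ρ, hρ, rfl⟩
  have hid : LinearMap.trace ℂ (Fin d → ℂ) LinearMap.id = ρ.character 1 := by
    rw [Representation.char_one, LinearMap.trace_id]
  rw [hT, map_smul, hid, smul_eq_mul] at htr
  funext x
  have hx : ∑ n : N, conj (θ n) * ρ.character (x * ι n) = c * ρ.character x := by
    have h2 : LinearMap.trace ℂ _ (ρ x ∘ₗ A) = c * ρ.character x := by
      rw [hT, LinearMap.comp_smul, map_smul, LinearMap.comp_id]; rfl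
    rw [← h2]
    rw [← Module.End.mul_eq_comp]
    simp only [A, Finset.mul_sum, mul_smul_comm, ← map_mul, map_sum, map_smul, smul_eq_mul]
    rfl
  rw [isoPart_apply, hx, Pi.smul_apply, smul_eq_mul]
  have hN : (Nat.card N : ℂ) ≠ 0 := Nat.cast_ne_zero.mpr Nat.card_pos.ne'
  field_simp
  linear_combination (θ 1 * ρ.character x) * htr

theorem isoPart_restrict (φ : IrrCharacter N) (hθ : IsIrrCharacter N θ) :
    isoPart (MonoidHom.id N) θ (φ : N → ℂ) = open Classical in
      if (φ : N → ℂ) = θ then θ else 0 := by
  classical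
  rw [isoPart_irr_scalar _ θ Function.injective_id
    (stable_id θ (isClassFunction_of_isCharacter (isCharacter_of_isIrr hθ))) φ.2]
  simp only [MonoidHom.id_apply]
  rw [classInner_irr φ.2 hθ]
  split_ifs with h
  · rw [h, mul_one, div_self (irr_degree_ne_zero hθ), one_smul]
  · rw [mul_zero, zero_div, zero_smul]

/-- The isotypic operator fixes the characters over `θ` and kills the others. -/
theorem isoPart_irr (hθ : IsIrrCharacter N θ) (hinj : Function.Injective ι) (hst : Stable ι θ)
    {η : X → ℂ} (hη : IsIrrCharacter X η) :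
    isoPart ι θ η = open Classical in if classInner (fun n => η (ι n)) θ = 0 then 0 else η := by
  classical
  rw [isoPart_irr_scalar ι θ hinj hst hη]
  set e := classInner (fun n => η (ι n)) θ
  split_ifs with he
  · rw [he, mul_zero, zero_div, zero_smul]
  · have hcl : IsClassFunction N (fun n => η (ι n)) :=
      isClassFunction_comp ι (isClassFunction_of_isCharacter (isCharacter_of_isIrr hη))
    have h1 : isoPart (MonoidHom.id N) θ (fun n => η (ι n)) = e • θ := by
      conv_lhs => rw [classFunction_expansion hcl]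
      rw [map_sum, Finset.sum_eq_single ⟨θ, hθ⟩ (fun φ _ hφ => ?_) (by simp)]
      · rw [map_smul, isoPart_restrict θ ⟨θ, hθ⟩ hθ, if_pos rfl]
      · rw [map_smul, isoPart_restrict θ φ hθ, if_neg fun h => hφ (Subtype.ext h), smul_zero]
    have h2 : ∀ n, θ 1 * e / η 1 * η (ι n) = e * θ n := fun n => by
      have hA := congrFun (isoPart_irr_scalar ι θ hinj hst hη) (ι n)
      have hB := congrFun h1 n
      rw [Pi.smul_apply, smul_eq_mul, isoPart_apply] at hA
      rw [Pi.smul_apply, smul_eq_mul, isoPart_apply] at hB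
      rw [← hA, ← hB]
      simp [map_mul]
    have hη1 := irr_degree_ne_zero hη
    have hθ1 := irr_degree_ne_zero hθ
    have h3 : (fun n => η (ι n)) = (η 1 / θ 1) • θ := funext fun n => by
      have := h2 n
      rw [Pi.smul_apply, smul_eq_mul]
      field_simp at this ⊢
      linear_combination this
    have h4 : e = η 1 / θ 1 := by
      show classInner (fun n => η (ι n)) θ = _
      rw [h3, classInner_smul_left, classInner_irr_self hθ, mul_one]
    rw [h4, show θ 1 * (η 1 / θ 1) / η 1 = 1 by field_simp, one_smul]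

theorem classInner_isoPart [Fintype X] (hθ : IsIrrCharacter N θ) (hinj : Function.Injective ι)
    (hst : Stable ι θ) {f : X → ℂ} (hf : IsClassFunction X f) :
    isoPart ι θ f = ∑ η : IrrCharacter X, (open Classical in
      if classInner (fun n => (η : X → ℂ) (ι n)) θ = 0 then 0 else classInner f (η : X → ℂ)) •
        (η : X → ℂ) := by
  classical
  conv_lhs => rw [classFunction_expansion hf]
  rw [map_sum]
  refine Finset.sum_congr rfl fun η _ => ?_
  rw [map_smul, isoPart_irr ι θ hθ hinj hst η.2]
  split_ifs <;> simp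

theorem isCharacter_isoPart (hθ : IsIrrCharacter N θ) (hinj : Function.Injective ι)
    (hst : Stable ι θ) {f : X → ℂ} (hf : IsCharacter X f) : IsCharacter X (isoPart ι θ f) := by
  classical
  haveI := Fintype.ofFinite X
  obtain ⟨m, rfl⟩ := exists_multiplicities hf
  rw [map_sum]
  refine isCharacter_sum _ _ fun η _ => ?_
  rw [map_smul, isoPart_irr ι θ hθ hinj hst η.2]
  split_ifs
  · rw [smul_zero]; exact isCharacter_zero
  · exact isCharacter_natCast_smul (isCharacter_of_isIrr η.2) _

theorem isClassFunction_isoPart (hθ : IsIrrCharacter N θ) (hinj : Function.Injective ι)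
    (hst : Stable ι θ) {f : X → ℂ} (hf : IsClassFunction X f) :
    IsClassFunction X (isoPart ι θ f) := by
  classical
  haveI := Fintype.ofFinite X
  rw [classInner_isoPart ι θ hθ hinj hst hf]
  intro g h
  simp only [Finset.sum_apply, Pi.smul_apply, fun η : IrrCharacter X => isClassFunction_irr η g h]

end CfsgLib.RegCone
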