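import Cfsg.Agent.Lib.Blocks.RegPart
import Cfsg.Agent.Lib.Blocks.RegCone.Proj

/-!
# A basis of lifts on the regular elements: definitions and the consequence for blocks

A `RegBasis` is a set of irreducible characters paired with linear functionals which see only the
regular elements, are non-negative on functions that are characters on every `p'`-subgroup, are dual
to the characters, and separate class functions on the regular elements.
-/

set_option autoImplicit false

namespace CfsgLib.RegCone

open Cfsg CfsgLib.Char CfsgLib.Blocks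
open scoped ComplexConjugate CfsgLib.Char

variable (p : ℕ) (G : Type*) [Group G]

/-- A class function which is a character on each subgroup of order prime to `p`. -/
def RegChar (f : G → ℂ) : Prop :=
  IsClassFunction G f ∧ ∀ K : Subgroup G, ¬ p ∣ Nat.card K → IsCharacter K (fun x : K => f x)

/-- The functionals. -/
structure RegFun where
  /-- The underlying linear map. -/
  val : (G → ℂ) →ₗ[ℂ] ℂ
  local' : ∀ f : G → ℂ, IsClassFunction G f → (∀ g, IsPRegular p g → f g = 0) → val f = 0
  nonneg : ∀ f : G → ℂ, RegChar p G f → ∃ r : ℝ, 0 ≤ r ∧ val f = r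

/-- The duality conditions. -/
def IsDual (L : Set (IrrCharacter G × RegFun p G)) : Prop :=
  (∀ a ∈ L, a.2.val (a.1 : G → ℂ) ≠ 0) ∧ ∀ a ∈ L, ∀ b ∈ L, a ≠ b → a.2.val (b.1 : G → ℂ) = 0

/-- The basis of lifts. -/
def HasBasis : Prop :=
  ∃ L : Set (IrrCharacter G × RegFun p G), IsDual p G L ∧
    ∀ f : G → ℂ, IsClassFunction G f → (∀ a ∈ L, a.2.val f = 0) → ∀ g, IsPRegular p g → f g = 0

/-- The basis of lifts over `θ`. -/
def HasIsoBasis {N : Type*} [Group N] [Fintype N] (ι : N →* G) (θ : N → ℂ) : Prop :=
  ∃ L : Set (IrrCharacter G × RegFun p G), IsDual p G L ∧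
    (∀ a ∈ L, classInner (fun n => (a.1 : G → ℂ) (ι n)) θ ≠ 0) ∧
    ∀ f : G → ℂ, IsClassFunction G f →
      (∀ x, θ 1 / (Nat.card N : ℂ) * ∑ n : N, conj (θ n) * f (x * ι n) = f x) →
      (∀ a ∈ L, a.2.val f = 0) → ∀ g, IsPRegular p g → f g = 0

variable {p} {G}

theorem regChar_of_isCharacter {f : G → ℂ} (hf : IsCharacter G f) : RegChar p G f :=
  ⟨isClassFunction_of_isCharacter hf, fun K _ => isCharacter_restrict K hf⟩

theorem isPRegular_of_mem {K : Subgroup G} (hK : ¬ p ∣ Nat.card K) {x : G} (hx : x ∈ K) :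
    IsPRegular p x := fun h => hK (h.trans (by
      rw [← Subgroup.orderOf_mk x hx]; exact orderOf_dvd_natCard _))

theorem RegFun.eq_of_eq (w : RegFun p G) {f f' : G → ℂ} (hf : IsClassFunction G f)
    (hf' : IsClassFunction G f') (h : ∀ g, IsPRegular p g → f g = f' g) : w.val f = w.val f' := by
  refine sub_eq_zero.mp ?_
  rw [← map_sub]
  exact w.local' _ (fun g h => by simp only [Pi.sub_apply, hf g h, hf' g h])
    fun g hg => sub_eq_zero.mpr (h g hg)

theorem IsDual.fst_injOn {L : Set (IrrCharacter G × RegFun p G)} (hL : IsDual p G L) :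
    Set.InjOn Prod.fst L := by
  intro a ha b hb e
  by_contra hne
  exact hL.1 a ha (e ▸ hL.2 a ha b hb hne)

theorem IsDual.finite [Finite G] {L : Set (IrrCharacter G × RegFun p G)} (hL : IsDual p G L) :
    L.Finite :=
  Set.Finite.of_finite_image (Set.toFinite _) hL.fst_injOn

/-- Subtracting the expansion kills every functional. -/
theorem IsDual.sub_expansion [Finite G] {L : Set (IrrCharacter G × RegFun p G)}
    (hL : IsDual p G L) (f : G → ℂ) : ∀ a ∈ L, a.2.val (f - ∑ b ∈ hL.finite.toFinset,
      (b.2.val f / b.2.val (b.1 : G → ℂ)) • (b.1 : G → ℂ)) = 0 := by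
  classical
  intro a ha
  rw [map_sub, map_sum, Finset.sum_eq_single a]
  · rw [map_smul, smul_eq_mul, div_mul_cancel₀ _ (hL.1 a ha), sub_self]
  · intro b hb hba
    rw [map_smul, hL.2 a ha b (hL.finite.mem_toFinset.mp hb) hba.symm, smul_zero]
  · exact fun h => absurd (hL.finite.mem_toFinset.mpr ha) h

theorem isClassFunction_sum {ι : Type*} (s : Finset ι) (c : ι → ℂ) (φ : ι → G → ℂ)
    (h : ∀ i ∈ s, IsClassFunction G (φ i)) : IsClassFunction G (∑ i ∈ s, c i • φ i) := fun g x => by
  simp only [Finset.sum_apply, Pi.smul_apply]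
  exact Finset.sum_congr rfl fun i hi => by rw [h i hi g x]

theorem expansion [Finite G] {L : Set (IrrCharacter G × RegFun p G)} (hL : IsDual p G L)
    (hsep : ∀ f : G → ℂ, IsClassFunction G f → (∀ a ∈ L, a.2.val f = 0) →
      ∀ g, IsPRegular p g → f g = 0)
    {f : G → ℂ} (hf : IsClassFunction G f) {g : G} (hg : IsPRegular p g) :
    f g = (∑ b ∈ hL.finite.toFinset, (b.2.val f / b.2.val (b.1 : G → ℂ)) • (b.1 : G → ℂ)) g := by
  refine sub_eq_zero.mp (hsep _ (fun x y => ?_) (hL.sub_expansion f) g hg)
  simp only [Pi.sub_apply, hf x y]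
  rw [isClassFunction_sum _ _ _ (fun b _ => isClassFunction_irr b.1) x y]

theorem classInner_eq_zero_of_regular [Fintype G] {f h : G → ℂ}
    (hf : ∀ g, IsPRegular p g → f g = 0) (hh : ∀ g, ¬ IsPRegular p g → h g = 0) :
    classInner f h = 0 := by
  simp only [classInner]
  rw [Finset.sum_eq_zero (fun g _ => ?_), mul_zero]
  by_cases hg : IsPRegular p g
  · rw [hf g hg, zero_mul]
  · rw [hh g hg, map_zero, mul_zero]

/-- A set whose degree-weighted sum vanishes at the singular elements is a union of blocks. -/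
theorem isBlockUnion_of_hasBasis [Fintype G] {M : Ideal AlgInt} (hM : IsPModular p M)
    (hB : HasBasis p G) {U : Set (IrrCharacter G)}
    (hU : ∀ x : G, p ∣ orderOf x → ∑ᶠ χ ∈ U, (χ : G → ℂ) 1 * (χ : G → ℂ) x = 0) :
    IsBlockUnion M U := by
  classical
  obtain ⟨L, hL, hsep⟩ := hB
  set F : G → ℂ := ∑ η ∈ U.toFinset, (η : G → ℂ) 1 • (η : G → ℂ) with hF
  have hFs : ∀ g, ¬ IsPRegular p g → F g = 0 := fun g hg => by
    rw [hF, Finset.sum_apply, ← hU g (not_not.mp hg), finsum_mem_eq_toFinset_sum]
    exact Finset.sum_congr rfl fun η _ => rfl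
  choose r hr using fun (ψ : IrrCharacter G) (b : IrrCharacter G × RegFun p G) =>
    b.2.nonneg _ (regChar_of_isCharacter (p := p) (isCharacter_of_isIrr ψ.2))
  set d : IrrCharacter G → IrrCharacter G × RegFun p G → ℝ := fun ψ b => r ψ b / r b.1 b with hd
  have hdv : ∀ ψ b, b.2.val (ψ : G → ℂ) / b.2.val (b.1 : G → ℂ) = (d ψ b : ℂ) := fun ψ b => by
    rw [(hr ψ b).2, (hr b.1 b).2, hd]; simp
  have hd0 : ∀ ψ b, 0 ≤ d ψ b := fun ψ b => div_nonneg (hr ψ b).1 (hr b.1 b).1
  set S := hL.finite.toFinset
  set k : IrrCharacter G → G → ℂ := fun ψ => (ψ : G → ℂ) - ∑ b ∈ S, (d ψ b : ℂ) • (b.1 : G → ℂ)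
    with hk
  have hkreg : ∀ ψ g, IsPRegular p g → k ψ g = 0 := fun ψ g hg => by
    show ((ψ : G → ℂ) - ∑ b ∈ S, (d ψ b : ℂ) • (b.1 : G → ℂ)) g = 0
    rw [Pi.sub_apply, expansion hL hsep (isClassFunction_irr ψ) hg]
    simp_rw [hdv]
    exact sub_self _
  choose n hn0 hn using fun ψ : IrrCharacter G => exists_nat_degree_irr ψ.2
  -- the supports are separated
  have hside : ∀ ψ, ∀ b ∈ S, d ψ b ≠ 0 → (b.1 ∈ U ↔ ψ ∈ U) := by
    intro ψ
    have h1 : (n ψ : ℝ) = ∑ b ∈ S, d ψ b * n b.1 := by
      have := hkreg ψ 1 (fun h => hM.1.not_dvd_one (by rwa [orderOf_one] at h))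
      simp only [hk] at this
      rw [Pi.sub_apply, sub_eq_zero, Finset.sum_apply] at this
      simp only [Pi.smul_apply, smul_eq_mul, hn] at this
      exact_mod_cast this
    have h2 : (if ψ ∈ U then (n ψ : ℝ) else 0) = ∑ b ∈ S, if b.1 ∈ U then d ψ b * n b.1 else 0 := by
      have := classInner_eq_zero_of_regular (h := F) (hkreg ψ) hFs
      simp only [hk, classInner_sub_left, classInner_sum_left, classInner_smul_left] at this
      have hval : ∀ η : IrrCharacter G, classInner (η : G → ℂ) F =
          if η ∈ U then (n η : ℂ) else 0 := fun η => by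
        rw [hF, classInner_sum_right]
        simp only [classInner_smul_right, classInner_coe, hn, map_natCast, mul_ite, mul_one,
          mul_zero, Finset.sum_ite_eq, Set.mem_toFinset]
      simp only [hval, sub_eq_zero, mul_ite, mul_zero] at this
      have h3 := congrArg Complex.re this
      simpa [apply_ite Complex.re, Complex.re_sum] using h3
    intro b hb hne
    have hpos : 0 < d ψ b * n b.1 :=
      mul_pos (lt_of_le_of_ne (hd0 ψ b) (Ne.symm hne)) (by exact_mod_cast hn0 b.1)
    constructor
    · intro hbU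
      by_contra hψ
      rw [if_neg hψ] at h2
      have := (Finset.sum_eq_zero_iff_of_nonneg (fun c _ => by
        split_ifs
        · exact mul_nonneg (hd0 ψ c) (Nat.cast_nonneg _)
        · exact le_rfl)).mp h2.symm b hb
      rw [if_pos hbU] at this
      exact hpos.ne' this
    · intro hψ
      by_contra hbU
      rw [if_pos hψ, h1] at h2
      have h3 : ∑ c ∈ S, (if c.1 ∈ U then 0 else d ψ c * n c.1) = 0 := by
        have : ∀ c, (if c.1 ∈ U then 0 else d ψ c * (n c.1 : ℝ)) =
            d ψ c * n c.1 - (if c.1 ∈ U then d ψ c * n c.1 else 0) := fun c => by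
          split_ifs <;> simp
        rw [Finset.sum_congr rfl fun c _ => this c, Finset.sum_sub_distrib, h2, sub_self]
      have := (Finset.sum_eq_zero_iff_of_nonneg (fun c _ => by
        split_ifs
        · exact le_rfl
        · exact mul_nonneg (hd0 ψ c) (Nat.cast_nonneg _))).mp h3 b hb
      rw [if_neg hbU] at this
      exact hpos.ne' this
  -- the projection preserves the functions vanishing on the regular elements
  let P : (G → ℂ) → (G → ℂ) := fun f => ∑ η ∈ U.toFinset, classInner f (η : G → ℂ) • (η : G → ℂ)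
  have hPadd : ∀ f (c : IrrCharacter G → ℂ), f = ∑ η, c η • (η : G → ℂ) →
      P f = ∑ η ∈ U.toFinset, c η • (η : G → ℂ) := fun f c hc => by
    refine Finset.sum_congr rfl fun η _ => ?_
    rw [hc, classInner_sum_smul_irr]
  have hPk : ∀ f : G → ℂ, IsClassFunction G f → (∀ g, IsPRegular p g → f g = 0) →
      ∀ g, IsPRegular p g → P f g = 0 := by
    intro f hf hfr
    set a := fun η : IrrCharacter G => classInner f (η : G → ℂ)
    have hfa : f = ∑ η, a η • (η : G → ℂ) := classFunction_expansion hf
    have hzero : ∀ b ∈ S, ∑ η : IrrCharacter G, a η * (d η b : ℂ) = 0 := fun b hb => by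
      have h := b.2.local' f hf hfr
      rw [hfa, map_sum] at h
      simp only [map_smul, smul_eq_mul] at h
      simp only [← hdv, mul_div_assoc', ← Finset.sum_div, h, zero_div]
    intro g hg
    rw [hPadd f a hfa, Finset.sum_apply]
    have hval : ∀ η : IrrCharacter G, (η : G → ℂ) g = ∑ b ∈ S, (d η b : ℂ) * (b.1 : G → ℂ) g :=
      fun η => by
        have := hkreg η g hg
        simp only [hk] at this
        rw [Pi.sub_apply, sub_eq_zero, Finset.sum_apply] at this
        exact this
    rw [Finset.sum_congr rfl (fun η _ => show (a η • (η : G → ℂ)) g =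
      ∑ b ∈ S, a η * ((d η b : ℂ) * (b.1 : G → ℂ) g) by
        rw [Pi.smul_apply, smul_eq_mul, hval η, Finset.mul_sum])]
    rw [Finset.sum_comm]
    refine Finset.sum_eq_zero fun b hb => ?_
    simp_rw [← mul_assoc]
    rw [← Finset.sum_mul]
    by_cases hbU : b.1 ∈ U
    · rw [Finset.sum_subset (Finset.subset_univ U.toFinset) fun η _ hη => ?_, hzero b hb, zero_mul]
      have : d η b = 0 := by
        by_contra h
        exact hη (Set.mem_toFinset.mpr ((hside η b hb h).mp hbU))
      rw [this, Complex.ofReal_zero, mul_zero]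
    · rw [Finset.sum_eq_zero fun η hη => ?_, zero_mul]
      have : d η b = 0 := by
        by_contra h
        exact hbU ((hside η b hb h).mpr (Set.mem_toFinset.mp hη))
      rw [this, Complex.ofReal_zero, mul_zero]
  refine (isBlockUnion_iff_orthogonal hM).mpr fun ψ hψ φ hφ => ?_
  set R := regPart p (ψ : G → ℂ) with hR
  have hRc : IsClassFunction G R := isClassFunction_regPart (isClassFunction_irr ψ)
  set u := P R - R
  have hPψ : P (ψ : G → ℂ) = (ψ : G → ℂ) := by
    simp only [P, classInner_coe, ite_smul, one_smul, zero_smul, Finset.sum_ite_eq,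
      Set.mem_toFinset, hψ, if_true]
  have hu : ∀ g, IsPRegular p g → u g = 0 := fun g hg => by
    have hsc : IsClassFunction G ((ψ : G → ℂ) - R) := fun a b => by
      simp only [Pi.sub_apply, isClassFunction_irr ψ a b, hRc a b]
    have h0 := hPk _ hsc (fun g hg => by rw [Pi.sub_apply, hR, regPart_of_regular hg, sub_self]) g hg
    have hlin : P ((ψ : G → ℂ) - R) = P (ψ : G → ℂ) - P R := by
      simp only [P, classInner_sub_left, sub_smul, Finset.sum_sub_distrib]
    rw [hlin, hPψ, Pi.sub_apply] at h0
    show (P R - R) g = 0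
    rw [Pi.sub_apply]
    have hRg : R g = (ψ : G → ℂ) g := regPart_of_regular hg
    linear_combination -h0 - hRg
  have hPRu : classInner (P R) u = 0 := by
    simp only [P, classInner_sum_left, classInner_smul_left]
    refine Finset.sum_eq_zero fun η hη => ?_
    have h0 : classInner u (η : G → ℂ) = 0 := by
      simp only [u, P, classInner_sub_left, classInner_sum_left, classInner_smul_left, classInner_coe,
        mul_ite, mul_one, mul_zero, Finset.sum_ite_eq', hη, if_true, sub_self]
    rw [← classInner_conj_symm u, h0, map_zero, mul_zero]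
  have hRu : classInner R u = 0 := by
    rw [← classInner_conj_symm u, classInner_eq_zero_of_regular hu
      (fun g hg => regPart_of_singular hg), map_zero]
  have hu0 : u = 0 := eq_zero_of_classInner_self (by
    show classInner (P R - R) u = 0
    rw [classInner_sub_left, hPRu, hRu, sub_self])
  rw [← sub_eq_zero.mp (show P R - R = 0 from hu0)]
  simp only [P, classInner_sum_left, classInner_smul_left, classInner_coe, mul_ite, mul_one,
    mul_zero, Finset.sum_ite_eq', Set.mem_toFinset, hφ, if_false]

end CfsgLib.RegCone
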