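import Cfsg.Agent.Lib.Blocks.RegCone.Push
import Cfsg.Agent.Lib.Char.Clifford

/-!
# From bases of lifts over the characters of a normal `p'`-subgroup to a basis of lifts
-/

set_option autoImplicit false

namespace CfsgLib.RegCone

open Cfsg CfsgLib.Char CfsgLib.Blocks
open scoped ComplexConjugate CfsgLib.Char

section Local

variable {p : ℕ} [hp : Fact p.Prime] {X N : Type*} [Group X] [Fintype X] [Group N] [Fintype N]
  {ι : N →* X} {θ : N → ℂ} (hinj : Function.Injective ι) (hN : ¬ p ∣ Nat.card N)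
  (hθ : IsIrrCharacter N θ) (hst : Stable ι θ)

omit [Fintype X] [Fintype N] in
theorem normal_range (hst : Stable ι θ) : ι.range.Normal := by
  refine ⟨?_⟩
  rintro _ ⟨n, rfl⟩ x
  obtain ⟨m, hm, -⟩ := hst x n
  exact ⟨m, hm⟩

include hinj hN hst in
theorem isoPart_eq_zero_of_regular {f : X → ℂ} (hf : ∀ x, IsPRegular p x → f x = 0) {x : X}
    (hx : IsPRegular p x) : isoPart ι θ f x = 0 := by
  haveI := normal_range hst
  have hR : ¬ p ∣ Nat.card (QuotientGroup.mk' ι.range).ker := by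
    rw [QuotientGroup.ker_mk', Nat.card_congr (MonoidHom.ofInjective hinj).symm.toEquiv]
    exact hN
  rw [isoPart_apply, Finset.sum_eq_zero fun n _ => ?_, mul_zero]
  rw [hf _ (isPRegular_of_map (QuotientGroup.mk' ι.range) hp.out hR ?_), mul_zero]
  rw [map_mul, show QuotientGroup.mk' ι.range (ι n) = 1 from
    (QuotientGroup.eq_one_iff _).mpr ⟨n, rfl⟩, mul_one]
  exact isPRegular_map _ hx

include hinj hN hθ hst in
/-- The isotypic part of a function which is a character locally is one. -/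
theorem regChar_isoPart {f : X → ℂ} (hf : RegChar p X f) : RegChar p X (isoPart ι θ f) := by
  refine ⟨isClassFunction_isoPart ι θ hθ hinj hst hf.1, fun K hK => ?_⟩
  haveI := normal_range hst
  set q := QuotientGroup.mk' ι.range
  set Y := (K.map q).comap q with hY
  have hKY : K ≤ Y := Subgroup.le_comap_map q K
  have hNY : ∀ n, ι n ∈ Y := fun n => by
    show q (ι n) ∈ K.map q
    rw [show q (ι n) = 1 from (QuotientGroup.eq_one_iff _).mpr ⟨n, rfl⟩]
    exact one_mem _
  have hYc : ¬ p ∣ Nat.card Y := not_dvd_card_comap q (QuotientGroup.mk'_surjective _) hp.out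
    (by rw [QuotientGroup.ker_mk', Nat.card_congr (MonoidHom.ofInjective hinj).symm.toEquiv]
        exact hN)
    fun h => hK (h.trans (Subgroup.card_map_dvd K q))
  have hres : (fun x : K => isoPart ι θ f x) =
      fun x : K => isoPart (ι.codRestrict Y hNY) θ (fun y : Y => f y) (Subgroup.inclusion hKY x) := by
    funext x
    simp only [isoPart_apply]
    rfl
  rw [hres]
  refine isCharacter_comp (Subgroup.inclusion hKY) (isCharacter_isoPart _ θ hθ
    (fun a b h => hinj (congrArg Subtype.val h)) (fun y n => ?_) (hf.2 Y hYc))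
  obtain ⟨m, hm, hm'⟩ := hst y n
  exact ⟨m, Subtype.ext hm, hm'⟩

include hinj hN hθ hst in
/-- The members over `θ` of a basis of lifts form one over `θ`. -/
theorem hasIsoBasis_of_hasBasis (h : HasBasis p X) : HasIsoBasis p X ι θ := by
  classical
  obtain ⟨L, hL, hsep⟩ := h
  refine ⟨{a ∈ L | classInner (fun n => (a.1 : X → ℂ) (ι n)) θ ≠ 0},
    ⟨fun a ha => hL.1 a ha.1, fun a ha b hb => hL.2 a ha.1 b hb.1⟩, fun a ha => ha.2,
    fun f hf hfix h0 x hx => ?_⟩
  have hfix' : isoPart ι θ f = f := funext hfix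
  set g : X → ℂ := ∑ b ∈ hL.finite.toFinset, (b.2.val f / b.2.val (b.1 : X → ℂ)) • (b.1 : X → ℂ)
  have hfg : isoPart ι θ (f - g) x = 0 :=
    isoPart_eq_zero_of_regular hinj hN hst
      (fun y hy => sub_eq_zero.mpr (expansion hL hsep hf hy)) hx
  rw [map_sub, Pi.sub_apply, hfix', sub_eq_zero] at hfg
  rw [hfg, map_sum, Finset.sum_apply]
  refine Finset.sum_eq_zero fun b hb => ?_
  rw [map_smul, Pi.smul_apply, isoPart_irr ι θ hθ hinj hst b.1.2]
  split_ifs with hb0
  · rw [Pi.zero_apply, smul_zero]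
  · rw [h0 b ⟨hL.finite.mem_toFinset.mp hb, hb0⟩, zero_div, zero_smul]

include hinj hθ hst in
omit hN in
theorem isoPart_isoPart {f : X → ℂ} (hf : IsClassFunction X f) :
    isoPart ι θ (isoPart ι θ f) = isoPart ι θ f := by
  classical
  rw [classInner_isoPart ι θ hθ hinj hst hf, map_sum]
  refine Finset.sum_congr rfl fun η _ => ?_
  rw [map_smul, isoPart_irr ι θ hθ hinj hst η.2]
  split_ifs <;> simp

end Local

section Combine

variable {p : ℕ} [hp : Fact p.Prime] {G : Type*} [Group G] [Fintype G] (N : Subgroup G)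
  [hNn : N.Normal] [Fintype N]

omit [Fintype G] [Fintype N] in
theorem stable_inclusion {θ : N → ℂ} {T : Subgroup G} (hNT : N ≤ T)
    (hT : ∀ g ∈ T, conjBy N θ g = θ) : Stable (Subgroup.inclusion hNT) θ := fun x n =>
  ⟨⟨(x : G) * n * (x : G)⁻¹, hNn.conj_mem (n : G) n.2 x⟩, Subtype.ext rfl,
    congrFun (hT x x.2) n⟩

section Corr

variable (T : Subgroup G) {θ : N → ℂ} (hθ : IsIrrCharacter N θ)
  (hT : ∀ g, g ∈ T ↔ conjBy N θ g = θ) (hNT : N ≤ T)

include hθ hT in
omit hp in
theorem corr {a : T → ℂ} (ha : IsIrrCharacter T a) (hcon : classInner (resTo N T hNT a) θ ≠ 0) :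
    IsIrrCharacter G (indFun T a) ∧ classInner (fun n : N => indFun T a n) θ ≠ 0 ∧
      isoPart (Subgroup.inclusion hNT) θ (fun t : T => indFun T a t) = a := by
  classical
  obtain ⟨hirr, he, huniq⟩ := clifford_correspondence N T hθ hT hNT ha hcon
  refine ⟨hirr, fun h0 => hcon (he.symm.trans h0), ?_⟩
  have hcl := isClassFunction_of_isCharacter (isCharacter_of_isIrr hirr)
  have hst := stable_inclusion N hNT fun g hg => (hT g).mp hg
  rw [classInner_isoPart _ _ hθ (Subgroup.inclusion_injective hNT) hst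
    (isClassFunction_restrict T hcl), Finset.sum_eq_single (⟨a, ha⟩ : IrrCharacter T)]
  · rw [if_neg (show classInner (fun n => a (Subgroup.inclusion hNT n)) θ ≠ 0 from hcon),
      ← frobenius_reciprocity' T a hcl, classInner_irr_self hirr, one_smul]
  · intro b _ hb
    split_ifs with hb0
    · rw [zero_smul]
    · obtain ⟨hbirr, -, -⟩ := clifford_correspondence N T hθ hT hNT b.2 hb0
      rw [← frobenius_reciprocity' T (b : T → ℂ) hcl, classInner_irr_ne hirr hbirr fun e =>
        hb (Subtype.ext (huniq _ b.2 hb0 e.symm)), zero_smul]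
  · exact fun h => absurd (Finset.mem_univ _) h

include hθ hT in
omit hp in
theorem isoPart_restrict_zero (η : IrrCharacter G)
    (h0 : classInner (fun n : N => (η : G → ℂ) n) θ = 0) :
    isoPart (Subgroup.inclusion hNT) θ (fun t : T => (η : G → ℂ) t) = 0 := by
  classical
  rw [classInner_isoPart _ _ hθ (Subgroup.inclusion_injective hNT)
    (stable_inclusion N hNT fun g hg => (hT g).mp hg) (isClassFunction_restrict T (isClassFunction_irr η))]
  refine Finset.sum_eq_zero fun b _ => ?_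
  split_ifs with hb0
  · rw [zero_smul]
  · obtain ⟨hbirr, hb1, -⟩ := corr N T hθ hT hNT b.2 hb0
    rw [← frobenius_reciprocity' T (b : T → ℂ) (isClassFunction_irr η),
      classInner_irr_ne η.2 hbirr fun e => hb1 (e ▸ h0), zero_smul]

end Corr

/-- The inertia group contains `N`. -/
theorem le_inertia_irr (θ : IrrCharacter N) : N ≤ inertia N (θ : N → ℂ) :=
  le_inertia N (isClassFunction_irr θ)

/-- **Clifford reduction**: bases over all the characters of a normal `p'`-subgroup give a basis. -/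
theorem hasBasis_of_iso (hN : ¬ p ∣ Nat.card N)
    (h : ∀ θ : IrrCharacter N, HasIsoBasis p (inertia N (θ : N → ℂ))
      (Subgroup.inclusion (le_inertia_irr N θ)) (θ : N → ℂ)) :
    HasBasis p G := by
  classical
  choose L hL hover hsep using h
  let iso : ∀ θ : IrrCharacter N, (G → ℂ) →ₗ[ℂ] (inertia N (θ : N → ℂ) → ℂ) := fun θ =>
    isoPart (Subgroup.inclusion (le_inertia_irr N θ)) (θ : N → ℂ) ∘ₗ
      LinearMap.funLeft ℂ ℂ (inertia N (θ : N → ℂ)).subtype
  have hinj : ∀ θ : IrrCharacter N, Function.Injective (Subgroup.inclusion (le_inertia_irr N θ)) :=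
    fun θ => Subgroup.inclusion_injective _
  have hst : ∀ θ : IrrCharacter N, Stable (Subgroup.inclusion (le_inertia_irr N θ)) (θ : N → ℂ) :=
    fun θ => stable_inclusion N _ fun g hg => (mem_inertia N).mp hg
  have hT : ∀ (θ : IrrCharacter N) (g : G),
      g ∈ inertia N (θ : N → ℂ) ↔ conjBy N (θ : N → ℂ) g = (θ : N → ℂ) := fun θ g => mem_inertia N
  -- the Clifford correspondence
  have hcorr : ∀ (θ : IrrCharacter N) (a : IrrCharacter (inertia N (θ : N → ℂ))),
      classInner (fun n => (a : _ → ℂ) (Subgroup.inclusion (le_inertia_irr N θ) n)) (θ : N → ℂ) ≠ 0 →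
      IsIrrCharacter G (indFun _ (a : inertia N (θ : N → ℂ) → ℂ)) ∧
        classInner (fun n : N => indFun _ (a : inertia N (θ : N → ℂ) → ℂ) n) (θ : N → ℂ) ≠ 0 ∧
        iso θ (indFun _ (a : inertia N (θ : N → ℂ) → ℂ)) = a :=
    fun θ a ha => corr N _ θ.2 (hT θ) (le_inertia_irr N θ) a.2 ha
  have hzero : ∀ (θ : IrrCharacter N) (η : IrrCharacter G),
      classInner (fun n : N => (η : G → ℂ) n) (θ : N → ℂ) = 0 → iso θ (η : G → ℂ) = 0 :=
    fun θ η h0 => isoPart_restrict_zero N _ θ.2 (hT θ) (le_inertia_irr N θ) η h0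
  -- representatives of the orbits
  let s : Setoid (IrrCharacter N) :=
    ⟨fun θ φ => ∃ g, conjBy N (θ : N → ℂ) g = (φ : N → ℂ), fun θ => ⟨1, conjBy_one N _⟩,
      fun {θ φ} ⟨g, hg⟩ => ⟨g⁻¹, by rw [← hg, ← conjBy_mul, mul_inv_cancel, conjBy_one]⟩,
      fun {a b c} ⟨g, hg⟩ ⟨g', hg'⟩ => ⟨g * g', by rw [conjBy_mul, hg, hg']⟩⟩
  let R : Finset (IrrCharacter N) := Finset.univ.image fun θ => (Quotient.mk s θ).out
  have hRsep : ∀ θ ∈ R, ∀ φ ∈ R, ∀ η : IrrCharacter G,
      classInner (fun n : N => (η : G → ℂ) n) (θ : N → ℂ) ≠ 0 →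
      classInner (fun n : N => (η : G → ℂ) n) (φ : N → ℂ) ≠ 0 → θ = φ := by
    intro θ hθ φ hφ η h1 h2
    obtain ⟨θ₀, -, rfl⟩ := Finset.mem_image.mp hθ
    obtain ⟨φ₀, -, rfl⟩ := Finset.mem_image.mp hφ
    set θ := (Quotient.mk s θ₀).out with hθdef
    set φ := (Quotient.mk s φ₀).out with hφdef
    have h3 : (φ : N → ℂ) ∈ orbit N (θ : N → ℂ) := by
      by_contra h
      apply h2
      rw [clifford N η.2 θ.2 h1, classInner_smul_left, classInner_sum_left,
        Finset.sum_eq_zero fun ψ hψ => ?_, mul_zero]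
      obtain ⟨g, rfl⟩ := (mem_orbit N).mp hψ
      exact classInner_irr_ne (isIrrCharacter_conjBy N θ.2 g) φ.2 fun e => h (e ▸ hψ)
    have h4 : Quotient.mk s θ = Quotient.mk s φ := Quotient.sound ((mem_orbit N).mp h3)
    rw [hθdef, hφdef, Quotient.out_eq, Quotient.out_eq] at h4
    rw [hθdef, hφdef, h4]
  have hRcov : ∀ η : IrrCharacter G, ∃ θ ∈ R,
      classInner (fun n : N => (η : G → ℂ) n) (θ : N → ℂ) ≠ 0 := by
    intro η
    obtain ⟨θ₀, hθ₀⟩ := exists_constituent N (isCharacter_of_isIrr η.2) (irr_degree_ne_zero η.2)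
    refine ⟨_, Finset.mem_image_of_mem _ (Finset.mem_univ θ₀), ?_⟩
    obtain ⟨g, hg⟩ := Quotient.exact (Quotient.out_eq (Quotient.mk s θ₀))
    intro h
    apply hθ₀
    rw [← hg]
    nth_rw 1 [← conjBy_restrict N (isClassFunction_irr η) g]
    rwa [classInner_conjBy]
  -- the functionals
  let w : ∀ θ : IrrCharacter N, RegFun p (inertia N (θ : N → ℂ)) → RegFun p G := fun θ v =>
    { val := v.val ∘ₗ iso θ
      local' := fun f hf h0 => v.local' _
        (isClassFunction_isoPart _ _ θ.2 (hinj θ) (hst θ) (isClassFunction_restrict _ hf))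
        fun t ht => isoPart_eq_zero_of_regular (hinj θ) hN (hst θ)
          (f := fun t : inertia N (θ : N → ℂ) => f t)
          (fun t ht => h0 _ (isPRegular_map (inertia N (θ : N → ℂ)).subtype ht)) ht
      nonneg := fun f hf => v.nonneg _ (regChar_isoPart (hinj θ) hN θ.2 (hst θ) (hf.restrict _)) }
  let chr : ∀ θ : IrrCharacter N, IrrCharacter (inertia N (θ : N → ℂ)) → IrrCharacter G :=
    fun θ a => if h : IsIrrCharacter G (indFun _ (a : inertia N (θ : N → ℂ) → ℂ)) then ⟨_, h⟩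
      else ⟨_, isIrrCharacter_one⟩
  have hchr : ∀ θ, ∀ a ∈ L θ, (chr θ a.1 : G → ℂ) = indFun _ (a.1 : inertia N (θ : N → ℂ) → ℂ) :=
    fun θ a ha => by simp only [chr, dif_pos (hcorr θ a.1 (hover θ a ha)).1]
  have hval : ∀ θ, ∀ a ∈ L θ, ∀ φ, ∀ b ∈ L φ, θ ∈ R → φ ∈ R →
      (θ = φ → (w θ a.2).val (chr φ b.1 : G → ℂ) = a.2.val (iso θ (chr φ b.1 : G → ℂ))) ∧
      (θ ≠ φ → (w θ a.2).val (chr φ b.1 : G → ℂ) = 0) := by
    intro θ a ha φ b hb hθ hφ
    refine ⟨fun _ => rfl, fun hne => ?_⟩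
    show a.2.val (iso θ (chr φ b.1 : G → ℂ)) = 0
    rw [hzero θ _ (by_contra fun h => hne (hRsep θ hθ φ hφ _ h ?_)), map_zero]
    rw [hchr φ b hb]
    exact (hcorr φ b.1 (hover φ b hb)).2.1
  refine ⟨{x | ∃ θ ∈ R, ∃ a ∈ L θ, x = (chr θ a.1, w θ a.2)}, ⟨?_, ?_⟩, fun f hf h0 g hg => ?_⟩
  · rintro _ ⟨θ, -, a, ha, rfl⟩
    show a.2.val (iso θ _) ≠ 0
    rw [hchr θ a ha, (hcorr θ a.1 (hover θ a ha)).2.2]
    exact (hL θ).1 a ha
  · rintro _ ⟨θ, hθ, a, ha, rfl⟩ _ ⟨φ, hφ, b, hb, rfl⟩ hne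
    by_cases e : θ = φ
    · subst e
      show a.2.val (iso θ _) = 0
      rw [hchr θ b hb, (hcorr θ b.1 (hover θ b hb)).2.2]
      exact (hL θ).2 a ha b hb fun e => hne (by rw [e])
    · exact (hval θ a ha φ b hb hθ hφ).2 e
  · have hsum : f = ∑ θ ∈ R, indFun (inertia N (θ : N → ℂ)) (iso θ f) := by
      conv_lhs => rw [classFunction_expansion hf]
      conv_rhs => rw [classFunction_expansion hf]
      simp only [map_sum, map_smul, indFun_sum, indFun_smul]
      rw [Finset.sum_comm]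
      refine Finset.sum_congr rfl fun η _ => ?_
      rw [← Finset.smul_sum]
      congr 1
      obtain ⟨θ, hθ, hη⟩ := hRcov η
      rw [Finset.sum_eq_single θ]
      · obtain ⟨ψ, hψ, hψη, hψθ⟩ := clifford_correspondence_surjective N _ θ.2 (hT θ)
          (le_inertia_irr N θ) η.2 hη
        have := (hcorr θ ⟨ψ, hψ⟩ (fun e => hη (hψθ.symm.trans e))).2.2
        rw [show indFun (inertia N (θ : N → ℂ))
            ((⟨ψ, hψ⟩ : IrrCharacter (inertia N (θ : N → ℂ))) : inertia N (θ : N → ℂ) → ℂ) =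
          (η : G → ℂ) from hψη] at this
        rw [this]
        exact hψη.symm
      · intro φ hφ hne
        rw [hzero φ η (by_contra fun h => hne (hRsep φ hφ θ hθ η h hη)), indFun_zero]
      · exact fun h => absurd hθ h
    rw [hsum, Finset.sum_apply]
    refine Finset.sum_eq_zero fun θ hθ => ?_
    have hiso0 : ∀ t : inertia N (θ : N → ℂ), IsPRegular p t → iso θ f t = 0 :=
      hsep θ _
        (isClassFunction_isoPart _ _ θ.2 (hinj θ) (hst θ) (isClassFunction_restrict _ hf))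
        (congrFun (isoPart_isoPart (hinj θ) θ.2 (hst θ) (isClassFunction_restrict _ hf)))
        (fun a ha => h0 _ ⟨θ, hθ, a, ha, rfl⟩)
    simp only [indFun]
    rw [Finset.sum_eq_zero fun x _ => ?_, mul_zero]
    by_cases hx : x⁻¹ * g * x ∈ inertia N (θ : N → ℂ)
    · rw [extendByZero_mem _ _ hx]
      refine hiso0 _ fun hd => hg ?_
      rwa [Subgroup.orderOf_mk, show x⁻¹ * g * x = MulAut.conj x⁻¹ g by simp,
        MulEquiv.orderOf_eq] at hd
    · exact extendByZero_notMem _ _ hx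

end Combine

end CfsgLib.RegCone
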