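import Cfsg.Agent.Lib.Blocks.RegCone.Inertia
import Cfsg.Agent.Lib.Char.TripleAbove
import Cfsg.Agent.Lib.PSolvable.Core

/-!
# Lifts over an invariant character of a normal `p'`-subgroup

For an invariant `θ` the finite covering `D` carries an extension `χ` of `θ`; the functions over
`θ` on `X` correspond to functions on `Q = D/N` through `R f = ⟨f ∘ π, χ⟩` on cosets and
`A γ = χ γ` pushed down to `X`.
-/

set_option autoImplicit false

namespace CfsgLib.RegCone

open Cfsg CfsgLib.Char CfsgLib.Blocks Module Representation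
open scoped ComplexConjugate CfsgLib.Char

universe u

theorem push_mul_comp {D Q : Type*} [Group D] [Group Q] [Fintype D] (f : D →* Q)
    (hf : Function.Surjective f) (F : D → ℂ) (γ : Q → ℂ) :
    push f hf (fun x => F x * γ (f x)) = push f hf F * γ := by
  haveI := Fintype.ofFinite f.ker
  funext y
  obtain ⟨x, rfl⟩ := hf y
  simp only [Pi.mul_apply, push_apply f hf, avgN, map_mul]
  rw [mul_assoc, Finset.sum_mul]
  congr 1
  exact Finset.sum_congr rfl fun n _ => by rw [MonoidHom.mem_ker.mp n.2, one_mul]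

/-- Bases over `θ` do not depend on the copy of `N`. -/
theorem hasIsoBasis_comp_equiv {p : ℕ} {X N N' : Type*} [Group X] [Group N] [Fintype N] [Group N']
    [Fintype N'] {ι' : N' →* X} (e : N ≃* N') (θ : N' → ℂ)
    (h : HasIsoBasis p X ι' θ) :
    HasIsoBasis p X (ι'.comp e.toMonoidHom) (fun n => θ (e n)) := by
  obtain ⟨L, hL, hov, hsep⟩ := h
  refine ⟨L, hL, fun a ha => ?_, fun f hf hfix h0 => hsep f hf (fun x => ?_) h0⟩
  · exact fun h0 => hov a ha (by
      rw [← classInner_comp_mulEquiv e]
      exact h0)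
  · rw [← hfix x]
    simp only [Nat.card_congr e.toEquiv, map_one]
    congr 1
    exact (Fintype.sum_equiv e.toEquiv _ _ fun n => rfl).symm

variable {p : ℕ} [hp : Fact p.Prime] {X : Type u} [Group X] [Fintype X] (N : Subgroup X)
  [hNn : N.Normal] [Fintype N]

/-- A basis of the quotient `Q` of a covering with an extension `χ` of `θ` gives a basis over `θ`. -/
theorem hasIsoBasis_of_extension {D Q : Type*} [Group D] [Fintype D] [Group Q] [Fintype Q]
    (π : D →* X) (hπ : Function.Surjective π) (q : D →* Q) (hq : Function.Surjective q)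
    [Fintype q.ker] [Fintype π.ker] (e : N ≃* q.ker) (he : ∀ n : N, π (e n : D) = n)
    (hqker : ¬ p ∣ Nat.card q.ker) (hπker : ¬ p ∣ Nat.card π.ker)
    {θ : N → ℂ} (hθ : IsIrrCharacter N θ) (hinv : ∀ g, conjBy N θ g = θ)
    {χ : D → ℂ} (hχc : IsCharacter D χ) (hχe : ∀ n : N, χ (e n : D) = θ n) (hQ : HasBasis p Q) :
    HasIsoBasis p X N.subtype θ := by
  classical
  set θ' : q.ker → ℂ := fun x => θ (e.symm x) with hθ'def
  have hθ' : IsIrrCharacter q.ker θ' := (isIrrCharacter_comp_equiv e.symm).mpr hθ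
  have hext : ∀ x : q.ker, χ x = θ' x := fun x => by
    obtain ⟨n, rfl⟩ := e.surjective x
    rw [hχe n]
    exact congrArg θ (MulEquiv.symm_apply_apply e n).symm
  have hχ : IsIrrCharacter D χ :=
    isIrr_of_restrict q.ker hχc (by rw [show (fun x : q.ker => χ x) = θ' from funext hext]; exact hθ')
  have hinner : ∀ F : D → ℂ, classInner (fun x : q.ker => F x) θ' =
      classInner (fun n : N => F (e n : D)) θ := fun F => by
    rw [← classInner_comp_mulEquiv e]
    simp only [hθ'def, MulEquiv.symm_apply_apply]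
  -- the two operators
  let R : (X → ℂ) →ₗ[ℂ] (Q → ℂ) :=
    push q hq ∘ₗ LinearMap.mulLeft ℂ (fun x => conj (χ x)) ∘ₗ LinearMap.funLeft ℂ ℂ π
  let A : (Q → ℂ) →ₗ[ℂ] (X → ℂ) :=
    push π hπ ∘ₗ LinearMap.mulLeft ℂ χ ∘ₗ LinearMap.funLeft ℂ ℂ q
  have hRreg : ∀ f : X → ℂ, RegChar p X f → RegChar p _ (R f) := fun f hf => by
    refine regChar_push q hq hp.out hqker ⟨fun a b => ?_, fun K hK => ?_⟩
    · show conj (χ _) * f (π _) = conj (χ _) * f (π _)
      simp only [isClassFunction_of_isCharacter hχc a b, map_mul, map_inv, hf.1 (π a) (π b)]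
    · exact isCharacter_mul (isCharacter_restrict K (isCharacter_conj hχc))
        (hf.comp_hom (π.comp K.subtype) hK)
  have hRloc : ∀ f : X → ℂ, (∀ x, IsPRegular p x → f x = 0) → ∀ y, IsPRegular p y → R f y = 0 :=
    fun f hf y hy => push_eq_zero_of_regular q hq hp.out hqker (fun x hx => by
      show conj (χ x) * f (π x) = 0
      rw [hf _ (isPRegular_map π hx), mul_zero]) hy
  have hAloc : ∀ γ : Q → ℂ, (∀ y, IsPRegular p y → γ y = 0) →
      ∀ x, IsPRegular p x → A γ x = 0 := fun γ hγ x hx =>
    push_eq_zero_of_regular π hπ hp.out hπker (fun z hz => by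
      show χ z * γ (q z) = 0
      rw [hγ _ (isPRegular_map q hz), mul_zero]) hx
  -- `χ` has norm one on the cosets
  have hone : push q hq (fun x => χ x * conj (χ x)) = fun _ => 1 := funext fun y => by
    obtain ⟨x, rfl⟩ := hq y
    rw [push_apply q hq, avgN_mul_conj_extension_self q.ker hθ' hχ hext]
  have hRA : ∀ γ : Q → ℂ,
      push q hq (fun x => conj (χ x) * (χ x * γ (q x))) = γ := fun γ => by
    rw [show (fun x => conj (χ x) * (χ x * γ (q x))) = fun x => (χ x * conj (χ x)) * γ (q x) from
      funext fun x => by ring, push_mul_comp, hone]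
    exact one_mul γ
  -- the images of the irreducibles
  have hA : ∀ γ : IrrCharacter (Q), A γ ≠ 0 →
      IsIrrCharacter X (A γ) ∧ classInner (fun n : N => A γ n) θ ≠ 0 ∧ R (A γ) = γ := by
    intro γ h0
    set b : D → ℂ := fun x => (γ : _ → ℂ) (q x) with hb
    have hbN : avgN q.ker b = b := funext fun x => by
      rw [← push_apply q hq, push_comp]
    obtain ⟨hirr, -, hov⟩ := extension_mul_isIrr q.ker hθ' hχ hext
      (b := b) (isIrrCharacter_comp_of_surjective γ.2 q hq) hbN
    rw [mul_comm b χ] at hirr hov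
    obtain ⟨hAirr, hAval⟩ := (push_irr π hπ hirr).resolve_left h0
    refine ⟨hAirr, ?_, ?_⟩
    · have := hinner (χ * b)
      rw [hov] at this
      rw [show (fun n : N => A γ n) = fun n : N => (χ * b) (e n : D) from funext fun n => by rw [← hAval (e n : D), he n]; rfl,
        ← this]
      exact irr_degree_ne_zero γ.2 ∘ fun h => by simpa [hb] using h
    · show push q hq (fun x => conj (χ x) * A γ (π x)) = _
      rw [show (fun x => conj (χ x) * A γ (π x)) = fun x => conj (χ x) * (χ x * (γ : _ → ℂ) (q x))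
        from funext fun x => congrArg (conj (χ x) * ·) (hAval x), hRA]
  have hAR : ∀ η : IrrCharacter X, classInner (fun n : N => (η : X → ℂ) n) θ ≠ 0 →
      A (R η) = η := by
    intro η hη
    have hθinv : ∀ g, conjBy q.ker θ' g = θ' := by
      rw [show θ' = fun x : q.ker => χ x from funext fun x => (hext x).symm]
      exact conjBy_restrict q.ker (isClassFunction_of_isCharacter hχc)
    have hπη : IsIrrCharacter (D) (fun x => (η : X → ℂ) (π x)) :=
      isIrrCharacter_comp_of_surjective η.2 π hπ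
    have hprod : (fun _ : q.ker => (1 : ℂ)) * θ' = θ' := funext fun x => one_mul _
    obtain ⟨β, ⟨hβ, hβ1⟩, hβη⟩ := (gallagher q.ker (φ := fun _ => 1) isIrrCharacter_one
      (fun g => rfl) hθinv (by rw [hprod]; exact hθ') hχ hext).surjOn ⟨hπη, by
        rw [hprod, frobenius_reciprocity q.ker θ' (isClassFunction_of_isCharacter
          (isCharacter_of_isIrr hπη)), ← classInner_conj_symm]
        exact fun h => hη (by
          rw [map_eq_zero, hinner fun x => (η : X → ℂ) (π x)] at h
          simpa only [he] using h)⟩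
    obtain ⟨-, hβval⟩ := (push_irr q hq hβ).resolve_left fun h0 => hβ1 (by
      rw [frobenius_reciprocity q.ker _ (isClassFunction_of_isCharacter (isCharacter_of_isIrr hβ)),
        ← classInner_conj_symm, map_eq_zero]
      have h1 : push q hq β (q 1) = 0 := by rw [h0]; rfl
      rw [push_apply q hq] at h1
      simpa [classInner, avgN] using h1)
    have hmul : ∀ x, (η : X → ℂ) (π x) = χ x * push q hq β (q x) := fun x => by
      rw [hβval, mul_comm]; exact (congrFun hβη x).symm
    have hR : R η = push q hq β := by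
      show push q hq (fun x => conj (χ x) * (η : X → ℂ) (π x)) = _
      rw [show (fun x => conj (χ x) * (η : X → ℂ) (π x)) =
        fun x => conj (χ x) * (χ x * push q hq β (q x)) from
          funext fun x => congrArg (conj (χ x) * ·) (hmul x), hRA]
    show push π hπ (fun x => χ x * R η (q x)) = _
    rw [hR, show (fun x => χ x * push q hq β (q x)) = fun x => (η : X → ℂ) (π x) from
      funext fun x => (hmul x).symm, push_comp]
  obtain ⟨L, hL, hsep⟩ := hQ
  let w : RegFun p (Q) → RegFun p X := fun v =>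
    { val := v.val ∘ₗ R
      local' := fun f hf h0 => v.local' _ (isClassFunction_push q hq fun a b => by
        show conj (χ _) * f (π _) = conj (χ _) * f (π _)
        simp only [isClassFunction_of_isCharacter hχc a b, map_mul, map_inv, hf (π a) (π b)])
        (hRloc f h0)
      nonneg := fun f hf => v.nonneg _ (hRreg f hf) }
  let g : IrrCharacter (Q) → IrrCharacter X := fun γ =>
    if h : IsIrrCharacter X (A γ) then ⟨_, h⟩ else ⟨_, isIrrCharacter_one⟩
  have hg : ∀ γ : IrrCharacter (Q), A γ ≠ 0 → (g γ : X → ℂ) = A γ :=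
    fun γ h => by simp only [g, dif_pos (hA γ h).1]
  have hval : ∀ a b : IrrCharacter Q × RegFun p Q, A b.1 ≠ 0 →
      (w a.2).val (g b.1 : X → ℂ) = a.2.val (b.1 : _ → ℂ) := fun a b h => by
    show a.2.val (R _) = _
    rw [hg _ h, (hA _ h).2.2]
  refine ⟨(fun a => (g a.1, w a.2)) '' {a ∈ L | A a.1 ≠ 0}, ⟨?_, ?_⟩, ?_,
    fun f hf hfix h0 x hx => ?_⟩
  · rintro _ ⟨a, ⟨ha, ha0⟩, rfl⟩
    rw [hval a a ha0]; exact hL.1 a ha
  · rintro _ ⟨a, ⟨ha, -⟩, rfl⟩ _ ⟨b, ⟨hb, hb0⟩, rfl⟩ hne
    rw [hval a b hb0]; exact hL.2 a ha b hb fun h => hne (by rw [h])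
  · rintro _ ⟨a, ⟨-, ha0⟩, rfl⟩
    show classInner (fun n : N => (g a.1 : X → ℂ) n) θ ≠ 0
    rw [hg _ ha0]
    exact (hA _ ha0).2.1
  · have hinj : Function.Injective N.subtype := Subtype.val_injective
    have hst : Stable N.subtype θ := fun y n =>
      ⟨⟨y * n * y⁻¹, hNn.conj_mem (n : X) n.2 y⟩, rfl, congrFun (hinv y) n⟩
    have hfix' : f = isoPart N.subtype θ f := (funext hfix).symm
    have hfAR : A (R f) = f := by
      rw [hfix', classInner_isoPart N.subtype θ hθ hinj hst hf, map_sum, map_sum]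
      refine Finset.sum_congr rfl fun η _ => ?_
      rw [map_smul, map_smul]
      split_ifs with h
      · simp
      · rw [hAR η h]
    have hRcl : IsClassFunction _ (R f) := isClassFunction_push q hq fun a b => by
      show conj (χ _) * f (π _) = conj (χ _) * f (π _)
      simp only [isClassFunction_of_isCharacter hχc a b, map_mul, map_inv, hf (π a) (π b)]
    have h1 := hAloc (R f - ∑ b ∈ hL.finite.toFinset,
        (b.2.val (R f) / b.2.val (b.1 : _ → ℂ)) • (b.1 : _ → ℂ))
      (fun y hy => sub_eq_zero.mpr (expansion hL hsep hRcl hy)) x hx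
    rw [map_sub, Pi.sub_apply, hfAR, sub_eq_zero] at h1
    rw [h1, map_sum, Finset.sum_apply]
    refine Finset.sum_eq_zero fun b hb => ?_
    rw [map_smul, Pi.smul_apply]
    by_cases hb0 : A b.1 = 0
    · rw [hb0, Pi.zero_apply, smul_zero]
    · rw [show b.2.val (R f) = 0 from h0 _ ⟨b, ⟨hL.finite.mem_toFinset.mp hb, hb0⟩, rfl⟩,
        zero_div, zero_smul]


/-- **The invariant step**. -/
theorem hasIsoBasis_of_invariant (hN : ¬ p ∣ Nat.card N) (hsol : IsPSolvable p X)
    (θ : IrrCharacter N) (hinv : ∀ g, conjBy N (θ : N → ℂ) g = θ)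
    (IH : ∀ (Q : Type u) [Group Q] [Fintype Q], IsPSolvable p Q →
      (Subgroup.center Q).index ≤ N.index → HasBasis p Q) :
    HasIsoBasis p X N.subtype (θ : N → ℂ) := by
  classical
  obtain ⟨θf, hθf⟩ := θ
  obtain ⟨d, ρ, hρ, rfl⟩ := hθf
  haveI := hρ
  have hθ : IsIrrCharacter N ρ.character := ⟨d, ρ, hρ, rfl⟩
  have hsurj : Function.Surjective (proj N ρ) := proj_surjective N ρ fun g n => by
    have := congrFun (hinv g) n
    rw [conjBy_eq_comp] at this
    exact this
  haveI : Finite (TripleAbove.fin ρ) := TripleAbove.finite_fin ρ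
  haveI : Fintype (TripleAbove.fin ρ) := Fintype.ofFinite _
  let π : TripleAbove.fin ρ →* X := (proj N ρ).comp (TripleAbove.fin ρ).subtype
  have hπ : Function.Surjective π := fun g => by
    obtain ⟨x, hx, e⟩ := TripleAbove.exists_fin ρ hsurj g; exact ⟨⟨x, hx⟩, e⟩
  let em : N →* TripleAbove.fin ρ := (embN N ρ).codRestrict _ (TripleAbove.embN_mem_fin ρ)
  have hπem : ∀ n : N, π (em n) = n := fun n => rfl
  haveI hMn : em.range.Normal := by
    refine ⟨?_⟩
    rintro _ ⟨n, rfl⟩ x
    exact ⟨_, Subtype.ext (embN_normal N ρ (x : covering N ρ) n).symm⟩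
  let q : TripleAbove.fin ρ →* TripleAbove.fin ρ ⧸ em.range := QuotientGroup.mk' em.range
  have hq : Function.Surjective q := QuotientGroup.mk'_surjective _
  haveI : Fintype (TripleAbove.fin ρ ⧸ em.range) := Fintype.ofFinite _
  haveI : Fintype q.ker := Fintype.ofFinite _
  haveI : Fintype π.ker := Fintype.ofFinite _
  have hqem : ∀ n, q (em n) = 1 := fun n => (QuotientGroup.eq_one_iff _).mpr ⟨n, rfl⟩
  let e : N ≃* q.ker :=
    (MonoidHom.ofInjective (fun a b h => Subtype.ext (congrArg π h) : Function.Injective em)).trans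
      (MulEquiv.subgroupCongr (QuotientGroup.ker_mk' em.range).symm)
  have heval : ∀ n, ((e n : q.ker) : TripleAbove.fin ρ) = em n := fun n => rfl
  -- the orders of the kernels
  have hqker : ¬ p ∣ Nat.card q.ker := by rw [← Nat.card_congr e.toEquiv]; exact hN
  have hdd : ¬ p ∣ finrank ℂ (Fin d → ℂ) * Nat.card N := fun h =>
    (hp.out.dvd_mul.mp h).elim (fun h' => hN (h'.trans (degree_dvd_card ρ))) hN
  have hπker : ¬ p ∣ Nat.card π.ker := by
    intro h
    obtain ⟨z, hz⟩ := exists_prime_orderOf_dvd_card' p h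
    have hz1 : proj N ρ ((z : TripleAbove.fin ρ) : covering N ρ) = 1 := MonoidHom.mem_ker.mp z.2
    obtain ⟨c, hc⟩ := exists_scal N ρ hz1
    have hcd := (TripleAbove.scal_mem_fin ρ).mp (hc ▸ (z : TripleAbove.fin ρ).2)
    have hcp : c ^ p = 1 := scal_injective N ρ (by
      rw [map_pow, ← hc, map_one]
      exact congrArg (fun y : π.ker => ((y : TripleAbove.fin ρ) : covering N ρ))
        (orderOf_dvd_iff_pow_eq_one.mp hz.dvd))
    have hc1 : c = 1 := orderOf_eq_one_iff.mp (Nat.eq_one_of_dvd_coprimes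
      ((Nat.Prime.coprime_iff_not_dvd hp.out).mpr hdd) (orderOf_dvd_of_pow_eq_one hcp)
      (orderOf_dvd_of_pow_eq_one hcd))
    have : z = 1 := Subtype.ext (Subtype.ext (by rw [hc, hc1, map_one]; rfl))
    rw [this, orderOf_one] at hz
    exact hp.out.one_lt.ne hz
  let σ : Representation ℂ (TripleAbove.fin ρ) (Fin d → ℂ) :=
    (Units.coeHom _).comp ((oper N ρ).comp (TripleAbove.fin ρ).subtype)
  -- the induction hypothesis
  have hQsol : IsPSolvable p (TripleAbove.fin ρ ⧸ em.range) := by
    refine PSolvable.isPSolvable_of_surjective q hq (PSolvable.isPSolvable_of_quotient π.ker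
      (Or.inr ((Nat.Prime.coprime_iff_not_dvd hp.out).mpr hπker).symm) ?_)
    exact PSolvable.isPSolvable_of_injective
      (QuotientGroup.quotientKerEquivOfSurjective π hπ).toMonoidHom
      (QuotientGroup.quotientKerEquivOfSurjective π hπ).injective hsol
  have hcent : (Subgroup.center (TripleAbove.fin ρ ⧸ em.range)).index ≤ N.index := by
    have hle : (N.comap π).map q ≤ Subgroup.center _ := by
      rintro _ ⟨x, hx, rfl⟩
      obtain ⟨c, hc⟩ := exists_mul_scal N ρ (x := (x : covering N ρ))
        (y := embN N ρ ⟨π x, hx⟩) rfl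
      refine Subgroup.mem_center_iff.mpr fun y => ?_
      obtain ⟨y, rfl⟩ := hq y
      set s := (em ⟨π x, hx⟩)⁻¹ * x
      have hs : q x = q s := by rw [map_mul, map_inv, hqem, inv_one, one_mul]
      rw [hs, ← map_mul, ← map_mul]
      refine congrArg q (Subtype.ext ?_)
      have hsv : (s : covering N ρ) = scal N ρ c := by
        show (embN N ρ ⟨π x, hx⟩)⁻¹ * (x : covering N ρ) = _
        rw [hc, inv_mul_cancel_left]
      show (y : covering N ρ) * s = s * (y : covering N ρ)
      rw [hsv, scal_comm]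
    have hker : q.ker ≤ N.comap π := fun x hx => by
      obtain ⟨n, rfl⟩ := (QuotientGroup.ker_mk' em.range ▸ hx : x ∈ em.range)
      exact n.2
    calc (Subgroup.center _).index ≤ ((N.comap π).map q).index :=
          Nat.le_of_dvd (Nat.pos_of_ne_zero Subgroup.index_ne_zero_of_finite)
            (Subgroup.index_dvd_of_le hle)
      _ = N.index := by
          rw [Subgroup.index_map_eq _ hq hker, Subgroup.index_comap_of_surjective _ hπ]
  refine hasIsoBasis_of_extension N π hπ q hq e (fun n => by rw [heval]; exact hπem n) hqker hπker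
    hθ hinv (isCharacter_character σ) (fun n => ?_) (IH _ hQsol hcent)
  show LinearMap.trace ℂ _ (σ (em n)) = ρ.character n
  rw [show σ (em n) = ρ n from oper_embN N ρ n]
  rfl

end CfsgLib.RegCone
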