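import Cfsg.Agent.Lib.Blocks.RegCone.Quotient
import Cfsg.Agent.Lib.Blocks.RegCone.Invariant
import Cfsg.Agent.Lib.TI.FaithfulDegree
import Cfsg.Agent.Lib.Fitting.Basic

/-!
# Every `p`-solvable group has a basis of lifts
-/

set_option autoImplicit false

namespace CfsgLib.RegCone

open Cfsg CfsgLib.Char CfsgLib.Blocks
open scoped ComplexConjugate CfsgLib.Char

universe u

/-- For a group of order prime to `p` all the irreducible characters form the basis. -/
theorem hasBasis_of_not_dvd {p : ℕ} {G : Type*} [Group G] [Fintype G] (hG : ¬ p ∣ Nat.card G) :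
    HasBasis p G := by
  classical
  have hreg : ∀ g : G, IsPRegular p g := fun g h => hG (h.trans (orderOf_dvd_natCard g))
  let w : IrrCharacter G → RegFun p G := fun χ =>
    { val :=
        { toFun := fun f => classInner f (χ : G → ℂ)
          map_add' := fun f f' => classInner_add_left f f' _
          map_smul' := fun c f => classInner_smul_left c f _ }
      local' := fun f _ h0 => by
        show classInner f (χ : G → ℂ) = 0
        rw [show f = 0 from funext fun g => h0 g (hreg g), classInner_zero_left]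
      nonneg := fun f hf => by
        obtain ⟨n, hn⟩ := exists_nat_classInner
          (hf.comp_hom (MonoidHom.id G) hG) (isCharacter_of_isIrr χ.2)
        exact ⟨n, Nat.cast_nonneg n, by rw [Complex.ofReal_natCast]; exact hn⟩ }
  refine ⟨Set.range fun χ => (χ, w χ), ⟨?_, ?_⟩, fun f hf h0 g _ => ?_⟩
  · rintro _ ⟨χ, rfl⟩
    show classInner (χ : G → ℂ) (χ : G → ℂ) ≠ 0
    rw [classInner_irr_self χ.2]; exact one_ne_zero
  · rintro _ ⟨χ, rfl⟩ _ ⟨ψ, rfl⟩ hne
    exact classInner_irr_ne ψ.2 χ.2 fun e => hne (congrArg (fun x => (x, w x)) (Subtype.ext e).symm)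
  · rw [classFunction_expansion hf, Finset.sum_apply]
    refine Finset.sum_eq_zero fun χ _ => ?_
    rw [show classInner f (χ : G → ℂ) = 0 from h0 _ ⟨χ, rfl⟩, zero_smul]
    rfl

theorem hasBasis_aux (p : ℕ) [hp : Fact p.Prime] : ∀ a b : ℕ, ∀ (G : Type u) [Group G] [Fintype G],
    IsPSolvable p G → (Subgroup.center G).index = a → Nat.card G = b → HasBasis p G := by
  intro a
  induction a using Nat.strong_induction_on with
  | _ a iha =>
  intro b
  induction b using Nat.strong_induction_on with
  | _ b ihb =>
  intro G _ _ hsol ha hb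
  classical
  by_cases hO : pCore p G = ⊥
  swap
  · haveI := Fitting.pCore_normal (G := G) p
    haveI : Fintype (G ⧸ pCore p G) := Fintype.ofFinite _
    have hq := QuotientGroup.mk'_surjective (pCore p G)
    have hker : IsPGroup p (QuotientGroup.mk' (pCore p G)).ker := by
      rw [QuotientGroup.ker_mk']; exact Fitting.pCore_isPGroup p
    have hs := PSolvable.isPSolvable_of_surjective _ hq hsol
    have hle : (Subgroup.center (G ⧸ pCore p G)).index ≤ a := by
      have h1 : (Subgroup.center G).map (QuotientGroup.mk' (pCore p G)) ≤ Subgroup.center _ := by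
        rintro _ ⟨z, hz, rfl⟩
        refine Subgroup.mem_center_iff.mpr fun y => ?_
        obtain ⟨y, rfl⟩ := hq y
        rw [← map_mul, ← map_mul, Subgroup.mem_center_iff.mp hz y]
      rw [← ha]
      exact Nat.le_of_dvd (Nat.pos_of_ne_zero Subgroup.index_ne_zero_of_finite)
        ((Subgroup.index_dvd_of_le h1).trans (Subgroup.index_map_dvd _ hq))
    refine hasBasis_of_quotient _ hq hker ?_
    rcases hle.lt_or_eq with h | h
    · exact iha _ h _ _ hs rfl rfl
    · refine ihb _ ?_ _ hs h rfl
      rw [← hb, Subgroup.card_eq_card_quotient_mul_card_subgroup (pCore p G)]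
      exact lt_mul_of_one_lt_right Nat.card_pos ((Subgroup.one_lt_card_iff_ne_bot _).mpr hO)
  -- no normal `p`-subgroup
  set Z := Subgroup.center G with hZ
  set K := pPrimeCore p G with hK
  haveI hKn : K.Normal := Transfer.pPrimeCore_normal p G
  haveI : Fintype K := Fintype.ofFinite _
  have hKp : ¬ p ∣ Nat.card K :=
    (Nat.Prime.coprime_iff_not_dvd hp.out).mp (Transfer.pPrimeCore_coprime p).symm
  have hZK : Z ≤ K := by
    refine Transfer.le_pPrimeCore inferInstance
      ((Nat.Prime.coprime_iff_not_dvd hp.out).mpr fun h => ?_).symm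
    obtain ⟨z, hz⟩ := exists_prime_orderOf_dvd_card' p h
    have hn : (Subgroup.zpowers (z : G)).Normal := ⟨fun x hx g => by
      have hxZ : x ∈ Subgroup.center G := Subgroup.zpowers_le.mpr z.2 hx
      rwa [Subgroup.mem_center_iff.mp hxZ g, mul_inv_cancel_right]⟩
    have hc : Nat.card (Subgroup.zpowers (z : G)) = p := by
      rw [Nat.card_zpowers, Subgroup.orderOf_coe]; exact hz
    have := Fitting.le_pCore hn (IsPGroup.of_card (n := 1) (by rw [hc, pow_one]))
    rw [hO, le_bot_iff] at this
    rw [this, Subgroup.card_bot] at hc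
    exact hp.out.one_lt.ne hc
  by_cases hKZ : K ≤ Z
  · -- a group of order prime to `p`
    have hKT : K = ⊤ := top_le_iff.mp (le_trans (fun g _ => Subgroup.mem_centralizer_iff.mpr
      fun k hk => (Subgroup.mem_center_iff.mp (hKZ hk) g).symm)
      (TIDegree.centralizer_pPrimeCore_le hsol hO))
    refine hasBasis_of_not_dvd ?_
    rwa [hKT, Subgroup.card_top] at hKp
  have hlt : K.index < a := ha ▸ Subgroup.index_strictAnti (lt_of_le_not_ge hZK hKZ)
  refine hasBasis_of_iso K hKp fun θ => ?_
  set T := inertia K (θ : K → ℂ) with hT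
  have hKT : K ≤ T := le_inertia_irr K θ
  haveI : Fintype T := Fintype.ofFinite _
  have hsT : IsPSolvable p T := PSolvable.isPSolvable_subgroup T hsol
  by_cases hTtop : T = ⊤
  · -- the invariant case
    haveI : Fintype (K.subgroupOf T) := Fintype.ofFinite _
    set e := (Subgroup.subgroupOfEquivOfLe hKT).symm
    have hinv : ∀ g : T, conjBy (K.subgroupOf T) (fun x => (θ : K → ℂ) (e.symm x)) g =
        fun x => (θ : K → ℂ) (e.symm x) := by
      intro g
      funext x
      rw [← congrFun ((mem_inertia K).mp g.2) (e.symm x)]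
      simp only [conjBy]
      congr 1
    have hidx : (K.subgroupOf T).index ≤ K.index := by
      show K.relIndex T ≤ K.index
      rw [← Subgroup.relIndex_mul_index hKT]
      exact Nat.le_mul_of_pos_right _ (Nat.pos_of_ne_zero Subgroup.index_ne_zero_of_finite)
    have h := hasIsoBasis_comp_equiv e _ (hasIsoBasis_of_invariant (K.subgroupOf T)
      (by rwa [← Nat.card_congr e.toEquiv]) hsT
      ⟨fun x => (θ : K → ℂ) (e.symm x), (isIrrCharacter_comp_equiv e.symm).mpr θ.2⟩ hinv
      fun Q _ _ hQ hQi => iha _ (hQi.trans_lt (hidx.trans_lt hlt)) _ _ hQ rfl rfl)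
    have h1 : (fun n => (θ : K → ℂ) (e.symm (e n))) = (θ : K → ℂ) :=
      funext fun n => congrArg _ (e.symm_apply_apply n)
    have h2 : (K.subgroupOf T).subtype.comp e.toMonoidHom = Subgroup.inclusion hKT :=
      MonoidHom.ext fun n => rfl
    rwa [h1, h2] at h
  · -- a proper inertia group
    refine hasIsoBasis_of_hasBasis (Subgroup.inclusion_injective _) hKp θ.2
      (stable_inclusion K _ fun g hg => (mem_inertia K).mp hg) ?_
    refine iha _ ?_ _ _ hsT rfl rfl
    have hle : Z.subgroupOf T ≤ Subgroup.center T := fun z hz => Subgroup.mem_center_iff.mpr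
      fun y => Subtype.ext (Subgroup.mem_center_iff.mp (Subgroup.mem_subgroupOf.mp hz) y)
    refine lt_of_le_of_lt (Nat.le_of_dvd (Nat.pos_of_ne_zero Subgroup.index_ne_zero_of_finite)
      (Subgroup.index_dvd_of_le hle)) ?_
    show Z.relIndex T < a
    rw [← ha, ← Subgroup.relIndex_mul_index (hZK.trans hKT)]
    exact lt_mul_of_one_lt_right (Nat.pos_of_ne_zero Subgroup.index_ne_zero_of_finite)
      (Subgroup.one_lt_index_of_ne_top hTtop)

/-- **Fong–Swan, as a basis of lifts**. -/
theorem hasBasis_of_isPSolvable (p : ℕ) [Fact p.Prime] (G : Type u) [Group G] [Fintype G]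
    (h : IsPSolvable p G) : HasBasis p G :=
  hasBasis_aux p _ _ G h rfl rfl

end CfsgLib.RegCone
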