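import Cfsg.Agent.Lib.Blocks.RegCone.Basic
import Cfsg.Agent.Lib.Blocks.Inflate
import Cfsg.Agent.Lib.Char.Gallagher
import Cfsg.Agent.Lib.Blocks.PPart
import Cfsg.Agent.Lib.Coprime.SchurZassenhaus
import Cfsg.Agent.Lib.PSolvable.Core

/-!
# Averaging along a surjection, and regular elements of quotients

`push f F y` is the mean value of `F` on the fibre of `f` over `y`.
-/

set_option autoImplicit false

namespace CfsgLib.RegCone

open Cfsg CfsgLib.Char CfsgLib.Blocks
open scoped ComplexConjugate CfsgLib.Char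

/-- A class function which is a character on all `p'`-subgroups is one along every map from a
`p'`-group. -/
theorem RegChar.comp_hom {p : ℕ} {G : Type*} [Group G] {f : G → ℂ} (hf : RegChar p G f)
    {K : Type*} [Group K] [Finite K] (j : K →* G) (hK : ¬ p ∣ Nat.card K) :
    IsCharacter K (fun x => f (j x)) :=
  isCharacter_comp j.rangeRestrict
    (hf.2 j.range fun h => hK (h.trans (Subgroup.card_range_dvd j)))

theorem RegChar.restrict {p : ℕ} {G : Type*} [Group G] [Finite G] {f : G → ℂ} (hf : RegChar p G f)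
    (T : Subgroup G) : RegChar p T (fun x : T => f x) :=
  ⟨isClassFunction_comp T.subtype hf.1, fun K hK =>
    hf.comp_hom (T.subtype.comp K.subtype) hK⟩

variable {D Q : Type*} [Group D] [Group Q] [Fintype D] (f : D →* Q) (hf : Function.Surjective f)

/-- The mean value on the fibres. -/
noncomputable def push : (D → ℂ) →ₗ[ℂ] (Q → ℂ) :=
  haveI := Fintype.ofFinite f.ker
  { toFun := fun F y => avgN f.ker F (Function.surjInv hf y)
    map_add' := fun F F' => funext fun y => by
      simp only [avgN, Pi.add_apply, Finset.sum_add_distrib, mul_add]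
    map_smul' := fun c F => funext fun y => by
      simp only [avgN, Pi.smul_apply, smul_eq_mul, RingHom.id_apply, Finset.mul_sum]
      exact Finset.sum_congr rfl fun n _ => by ring }

theorem push_apply [inst : Fintype f.ker] (F : D → ℂ) (x : D) :
    push f hf F (f x) = avgN f.ker F x := by
  obtain rfl : inst = Fintype.ofFinite f.ker := Subsingleton.elim _ _
  letI := Fintype.ofFinite f.ker
  have hk : Function.surjInv hf (f x) * x⁻¹ ∈ f.ker := by
    rw [MonoidHom.mem_ker, map_mul, map_inv, Function.surjInv_eq hf, mul_inv_cancel]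
  simp only [push, LinearMap.coe_mk, AddHom.coe_mk, avgN]
  congr 1
  refine Fintype.sum_equiv (Equiv.mulRight ⟨_, hk⟩) _ _ fun n => ?_
  show F _ = F (((n : D) * (Function.surjInv hf (f x) * x⁻¹)) * x)
  rw [mul_assoc, inv_mul_cancel_right]

theorem push_eq_of_forall [Fintype f.ker] (F : D → ℂ) (x : D) (c : ℂ)
    (h : ∀ n : f.ker, F ((n : D) * x) = c) : push f hf F (f x) = c := by
  simp only [push_apply f hf, avgN, h, Finset.sum_const, Finset.card_univ, nsmul_eq_mul,
    ← Nat.card_eq_fintype_card]
  rw [inv_mul_cancel_left₀ (Nat.cast_ne_zero.mpr Nat.card_pos.ne')]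

theorem push_comp (h : Q → ℂ) : push f hf (fun x => h (f x)) = h := by
  haveI := Fintype.ofFinite f.ker
  funext y
  obtain ⟨x, rfl⟩ := hf y
  refine push_eq_of_forall f hf _ x _ fun n => ?_
  rw [map_mul, MonoidHom.mem_ker.mp n.2, one_mul]

theorem isClassFunction_push {F : D → ℂ} (hF : IsClassFunction D F) :
    IsClassFunction Q (push f hf F) := fun a b => by
  haveI := Fintype.ofFinite f.ker
  obtain ⟨x, rfl⟩ := hf a
  obtain ⟨z, rfl⟩ := hf b
  rw [← map_inv, ← map_mul, ← map_mul, push_apply, push_apply]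
  exact isClassFunction_avgN f.ker hF x z

/-- An irreducible character is mapped to an irreducible character or to zero. -/
theorem push_irr [Fintype f.ker] {φ : D → ℂ} (hφ : IsIrrCharacter D φ) :
    push f hf φ = 0 ∨ (IsIrrCharacter Q (push f hf φ) ∧ ∀ x, push f hf φ (f x) = φ x) := by
  haveI : Finite Q := Finite.of_surjective f hf
  rcases avgN_dichotomy f.ker hφ with ⟨h, hc⟩ | ⟨h, -⟩
  · refine Or.inr ?_
    have hval : ∀ x, push f hf φ (f x) = φ x := fun x => by rw [push_apply f hf, h]
    obtain ⟨η, hη⟩ := exists_inflate_eq_of_ker f.ker ⟨φ, hφ⟩ fun u hu => by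
      simpa using hc ⟨u, hu⟩ 1
    let e := QuotientGroup.quotientKerEquivOfSurjective f hf
    have he : push f hf φ = fun y => (η : D ⧸ f.ker → ℂ) (e.symm y) := funext fun y => by
      obtain ⟨x, rfl⟩ := hf y
      rw [hval, show e.symm (f x) = (x : D ⧸ f.ker) from e.symm_apply_eq.mpr rfl]
      exact congrFun (congrArg Subtype.val hη) x
    exact ⟨he ▸ isIrrCharacter_comp_of_surjective η.2 e.symm.toMonoidHom e.symm.surjective, hval⟩
  · refine Or.inl (funext fun y => ?_)
    obtain ⟨x, rfl⟩ := hf y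
    rw [push_apply f hf, h]
    rfl

theorem isCharacter_push {F : D → ℂ} (hF : IsCharacter D F) : IsCharacter Q (push f hf F) := by
  haveI := Fintype.ofFinite f.ker
  haveI : Finite Q := Finite.of_surjective f hf
  obtain ⟨m, rfl⟩ := exists_multiplicities hF
  rw [map_sum]
  refine isCharacter_sum _ _ fun φ _ => ?_
  rw [map_smul]
  rcases push_irr f hf φ.2 with h | ⟨h, -⟩
  · rw [h, smul_zero]; exact isCharacter_zero
  · exact isCharacter_natCast_smul (isCharacter_of_isIrr h) _

include hf in
omit [Fintype D] in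
theorem surjective_subgroupComap (K : Subgroup Q) : Function.Surjective (f.subgroupComap K) :=
  fun y => by
    obtain ⟨x, hx⟩ := hf y
    exact ⟨⟨x, show f x ∈ K from hx ▸ y.2⟩, Subtype.ext hx⟩

/-- Mean values commute with restriction to a preimage. -/
theorem push_restrict (K : Subgroup Q) [Fintype (K.comap f)] (F : D → ℂ) :
    (fun y : K => push f hf F y) = push (f.subgroupComap K)
      (surjective_subgroupComap f hf K) (fun x => F x) := by
  haveI := Fintype.ofFinite f.ker
  haveI := Fintype.ofFinite (f.subgroupComap K).ker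
  funext y
  obtain ⟨x, hx⟩ := hf y
  have hxK : x ∈ K.comap f := show f x ∈ K from hx ▸ y.2
  rw [show y = f.subgroupComap K ⟨x, hxK⟩ from Subtype.ext hx.symm, push_apply (f.subgroupComap K)]
  show push f hf F (f x) = _
  rw [push_apply f hf]
  let e : f.ker ≃ (f.subgroupComap K).ker :=
    { toFun := fun n => ⟨⟨n, by
        show f n ∈ K
        rw [MonoidHom.mem_ker.mp n.2]; exact K.one_mem⟩,
        MonoidHom.mem_ker.mpr (Subtype.ext (MonoidHom.mem_ker.mp n.2))⟩
      invFun := fun n => ⟨(n : K.comap f),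
        MonoidHom.mem_ker.mpr (congrArg Subtype.val (MonoidHom.mem_ker.mp n.2))⟩
      left_inv := fun _ => rfl
      right_inv := fun _ => rfl }
  simp only [avgN, Nat.card_congr e]
  congr 1
  exact Fintype.sum_equiv e _ _ fun n => rfl

include hf in
theorem not_dvd_card_comap {p : ℕ} (hp : p.Prime) (hker : ¬ p ∣ Nat.card f.ker) {K : Subgroup Q}
    (hK : ¬ p ∣ Nat.card K) : ¬ p ∣ Nat.card (K.comap f) := by
  haveI : Finite Q := Finite.of_surjective f hf
  rw [PSolvable.card_comap_of_surjective hf K, hp.dvd_mul]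
  tauto

/-- Averaging along a kernel of order prime to `p` preserves being a character locally. -/
theorem regChar_push {p : ℕ} (hp : p.Prime) (hker : ¬ p ∣ Nat.card f.ker) {F : D → ℂ}
    (hF : RegChar p D F) : RegChar p Q (push f hf F) :=
  ⟨isClassFunction_push f hf hF.1, fun K hK => by
    haveI := Fintype.ofFinite (K.comap f)
    rw [push_restrict f hf K F]
    exact isCharacter_push _ _ (hF.2 _ (not_dvd_card_comap f hf hp hker hK))⟩

omit [Fintype D] in
theorem isPRegular_map {p : ℕ} {x : D} (hx : IsPRegular p x) : IsPRegular p (f x) := fun h =>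
  hx (h.trans (orderOf_map_dvd f x))

omit [Fintype D] in
theorem isPRegular_of_map {p : ℕ} (hp : p.Prime) (hker : ¬ p ∣ Nat.card f.ker) {x : D}
    (hx : IsPRegular p (f x)) : IsPRegular p x := fun h => by
  have h1 : x ^ orderOf (f x) ∈ f.ker := by
    rw [MonoidHom.mem_ker, map_pow, pow_orderOf_eq_one]
  have h2 : orderOf x ∣ orderOf (f x) * Nat.card f.ker := by
    refine orderOf_dvd_of_pow_eq_one ?_
    rw [pow_mul]
    exact congrArg Subtype.val (pow_card_eq_one' (x := (⟨_, h1⟩ : f.ker)))
  exact (hp.dvd_mul.mp (h.trans h2)).elim hx hker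

/-- Averaging along a kernel of order prime to `p` sees only the regular elements. -/
theorem push_eq_zero_of_regular {p : ℕ} (hp : p.Prime) (hker : ¬ p ∣ Nat.card f.ker) {F : D → ℂ}
    (hF : ∀ x, IsPRegular p x → F x = 0) {y : Q} (hy : IsPRegular p y) : push f hf F y = 0 := by
  haveI := Fintype.ofFinite f.ker
  obtain ⟨x, rfl⟩ := hf y
  refine push_eq_of_forall f hf _ x _ fun n => hF _ (isPRegular_of_map f hp hker ?_)
  rwa [map_mul, MonoidHom.mem_ker.mp n.2, one_mul]

include hf in
/-- Regular elements lift to regular elements. -/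
theorem exists_regular_preimage {p : ℕ} (hp : p.Prime) {y : Q} (hy : IsPRegular p y) :
    ∃ x : D, IsPRegular p x ∧ f x = y := by
  haveI : Finite Q := Finite.of_surjective f hf
  obtain ⟨x, rfl⟩ := hf y
  obtain ⟨u, ⟨v, huv, hc, ⟨k, hk⟩, hv⟩, -⟩ := exists_isPPart hp x
  refine ⟨v, hv, ?_⟩
  obtain ⟨j, -, hj⟩ := (Nat.dvd_prime_pow hp).mp (hk ▸ orderOf_map_dvd f u)
  have hu : f u = 1 := IsPPart.unique hp
    (g := f x) ⟨f v, by rw [← map_mul, huv], hc.map f, ⟨j, hj⟩, isPRegular_map f hv⟩
    ⟨f x, one_mul _, Commute.one_left _, ⟨0, by simp⟩, hy⟩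
  rw [← huv, map_mul, hu, one_mul]

/-- The regular preimages of an element in a quotient by a `p`-group are conjugate. -/
theorem isConj_regular_preimage {p : ℕ} [Fact p.Prime] (hker : IsPGroup p f.ker) {x x' : D}
    (hx : IsPRegular p x) (hx' : IsPRegular p x') (h : f x = f x') : IsConj x x' := by
  obtain ⟨n, hn⟩ := hker.exists_card_eq
  have hcop : ∀ z : D, IsPRegular p z → (Nat.card f.ker).Coprime (Nat.card (Subgroup.zpowers z)) :=
    fun z hz => by
      rw [hn, Nat.card_zpowers]
      exact ((Nat.Prime.coprime_iff_not_dvd Fact.out).mpr hz).pow_left n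
  have hmem : x' * x⁻¹ ∈ f.ker := by rw [MonoidHom.mem_ker, map_mul, map_inv, h, mul_inv_cancel]
  have hsup : f.ker ⊔ Subgroup.zpowers x = f.ker ⊔ Subgroup.zpowers x' := by
    refine le_antisymm (sup_le le_sup_left (Subgroup.zpowers_le.mpr ?_))
      (sup_le le_sup_left (Subgroup.zpowers_le.mpr ?_))
    · have := mul_mem (Subgroup.mem_sup_left (T := Subgroup.zpowers x') (inv_mem hmem))
        (Subgroup.mem_sup_right (Subgroup.mem_zpowers x'))
      rwa [mul_inv_rev, inv_inv, inv_mul_cancel_right] at this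
    · have := mul_mem (Subgroup.mem_sup_left (T := Subgroup.zpowers x) hmem)
        (Subgroup.mem_sup_right (Subgroup.mem_zpowers x))
      rwa [inv_mul_cancel_right] at this
  obtain ⟨c, hc, hce⟩ := Coprime.exists_conj_of_coprime
    (Subgroup.le_normalizer_of_normal (H := f.ker)) (hcop x hx) (hcop x' hx') hsup
    (Or.inr (Group.isSolvable_of_comm fun a b => IsMulCommutative.is_comm.comm a b))
  have h1 : c * x * c⁻¹ ∈ Subgroup.zpowers x' :=
    hce ▸ Subgroup.smul_mem_pointwise_smul x (MulAut.conj c) _ (Subgroup.mem_zpowers x)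
  have h2 : (c * x * c⁻¹) * x'⁻¹ ∈ f.ker ⊓ Subgroup.zpowers x' := by
    refine Subgroup.mem_inf.mpr ⟨?_, mul_mem h1 (inv_mem (Subgroup.mem_zpowers x'))⟩
    rw [MonoidHom.mem_ker, map_mul, map_mul, map_mul, map_inv, map_inv, MonoidHom.mem_ker.mp hc,
      inv_one, one_mul, mul_one, h, mul_inv_cancel]
  rw [Subgroup.inf_eq_bot_of_coprime (hcop x' hx'), Subgroup.mem_bot, mul_inv_eq_one] at h2
  exact isConj_iff.mpr ⟨c, h2⟩

end CfsgLib.RegCone
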