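import Cfsg.Agent.Lib.Blocks.RegCone.Push

/-!
# The basis of lifts passes from the quotient by a normal `p`-subgroup
-/

set_option autoImplicit false

namespace CfsgLib.RegCone

open Cfsg CfsgLib.Char CfsgLib.Blocks
open scoped ComplexConjugate CfsgLib.Char

variable {D Q : Type*} [Group D] [Group Q] [Fintype D] (f : D →* Q) (hf : Function.Surjective f)
  {p : ℕ} [hp : Fact p.Prime]

/-- The value at a regular preimage, extended by zero. -/
noncomputable def descReg (p : ℕ) : (D → ℂ) →ₗ[ℂ] (Q → ℂ) where
  toFun F y :=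
    open Classical in if h : ∃ x : D, IsPRegular p x ∧ f x = y then F h.choose else 0
  map_add' F F' := funext fun y => by
    simp only [Pi.add_apply]
    split_ifs <;> simp
  map_smul' c F := funext fun y => by
    simp only [Pi.smul_apply, smul_eq_mul, RingHom.id_apply]
    split_ifs <;> simp

theorem descReg_apply (hker : IsPGroup p f.ker) {F : D → ℂ} (hF : IsClassFunction D F) {x : D}
    (hx : IsPRegular p x) : descReg f p F (f x) = F x := by
  classical
  have h : ∃ z : D, IsPRegular p z ∧ f z = f x := ⟨x, hx, rfl⟩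
  show (if h : ∃ z : D, IsPRegular p z ∧ f z = f x then F h.choose else 0) = _
  rw [dif_pos h]
  exact eq_of_isConj hF (isConj_regular_preimage f hker h.choose_spec.1 hx h.choose_spec.2)

include hf in
theorem isClassFunction_descReg (hker : IsPGroup p f.ker) {F : D → ℂ} (hF : IsClassFunction D F) :
    IsClassFunction Q (descReg f p F) := fun a b => by
  classical
  by_cases ha : IsPRegular p a
  · obtain ⟨x, hx, rfl⟩ := exists_regular_preimage f hf hp.out ha
    obtain ⟨z, rfl⟩ := hf b
    have hc : IsPRegular p (z * x * z⁻¹) := by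
      rw [IsPRegular, ← MulAut.conj_apply, MulEquiv.orderOf_eq]; exact hx
    rw [← map_inv, ← map_mul, ← map_mul, descReg_apply f hker hF hc, descReg_apply f hker hF hx]
    exact hF x z
  · have hb : ¬ IsPRegular p (b * a * b⁻¹) := by
      rw [IsPRegular, ← MulAut.conj_apply, MulEquiv.orderOf_eq]; exact ha
    have h0 : ∀ y : Q, ¬ IsPRegular p y → descReg f p F y = 0 := fun y hy =>
      dif_neg fun ⟨x, hx, hxy⟩ => hy (hxy ▸ isPRegular_map f hx)
    rw [h0 _ hb, h0 _ ha]

include hf in
theorem regChar_descReg (hker : IsPGroup p f.ker) {F : D → ℂ} (hF : RegChar p D F) :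
    RegChar p Q (descReg f p F) := by
  refine ⟨isClassFunction_descReg f hf hker hF.1, fun K hK => ?_⟩
  haveI : Finite Q := Finite.of_surjective f hf
  -- a complement of the kernel in the preimage of `K`
  obtain ⟨n, hn⟩ := hker.exists_card_eq
  have hcop : (Nat.card f.ker).Coprime (Nat.card K) := by
    rw [hn]; exact ((Nat.Prime.coprime_iff_not_dvd hp.out).mpr hK).pow_left n
  have hle : f.ker ≤ K.comap f := fun x hx => by
    show f x ∈ K
    rw [MonoidHom.mem_ker.mp hx]; exact K.one_mem
  have hrel : f.ker.relIndex (K.comap f) = Nat.card K := by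
    have h1 := Subgroup.card_mul_index (f.ker.subgroupOf (K.comap f))
    rw [Nat.card_congr (Subgroup.subgroupOfEquivOfLe hle).toEquiv,
      PSolvable.card_comap_of_surjective hf K] at h1
    exact Nat.eq_of_mul_eq_mul_left Nat.card_pos h1
  obtain ⟨B, hB, hsup, hbot, hcard⟩ := Coprime.exists_complement_of_coprime (N := f.ker)
    (S := K.comap f) (Subgroup.le_normalizer_of_normal)
    (by rw [inf_eq_left.mpr hle, hrel]; exact hcop)
  rw [inf_eq_left.mpr hle] at hbot
  rw [hrel] at hcard
  have hBreg : ∀ b : B, IsPRegular p (b : D) :=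
    fun b => isPRegular_of_mem (by rw [hcard]; exact hK) b.2
  let j : B →* K := (f.comp B.subtype).codRestrict K fun b => hB b.2
  have hj : Function.Bijective j := by
    rw [Nat.bijective_iff_injective_and_card]
    refine ⟨(injective_iff_map_eq_one _).mpr fun b hb => ?_, hcard⟩
    have h1 : (b : D) ∈ f.ker ⊓ B :=
      Subgroup.mem_inf.mpr ⟨MonoidHom.mem_ker.mpr (congrArg Subtype.val hb), b.2⟩
    rw [hbot, Subgroup.mem_bot] at h1
    exact Subtype.ext h1
  let e := MulEquiv.ofBijective j hj
  have hval : (fun y : K => descReg f p F y) = fun y : K => F ((e.symm y : B) : D) := funext fun y => by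
    obtain ⟨b, rfl⟩ := e.surjective y
    rw [MulEquiv.symm_apply_apply]
    exact descReg_apply f hker hF.1 (hBreg b)
  rw [hval]
  exact hF.comp_hom (B.subtype.comp e.symm.toMonoidHom) hK

include hf in
/-- The basis of the quotient, inflated. -/
theorem hasBasis_of_quotient (hker : IsPGroup p f.ker) (h : HasBasis p Q) : HasBasis p D := by
  classical
  haveI : Finite Q := Finite.of_surjective f hf
  obtain ⟨L, hL, hsep⟩ := h
  let w : RegFun p Q → RegFun p D := fun v =>
    { val := v.val ∘ₗ descReg f p
      local' := fun F hF h0 => v.local' _ (isClassFunction_descReg f hf hker hF) fun y hy => by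
        obtain ⟨x, hx, rfl⟩ := exists_regular_preimage f hf hp.out hy
        rw [descReg_apply f hker hF hx, h0 x hx]
      nonneg := fun F hF => v.nonneg _ (regChar_descReg f hf hker hF) }
  let g : IrrCharacter Q × RegFun p Q → IrrCharacter D × RegFun p D :=
    fun a => (inflate f hf a.1, w a.2)
  have hval : ∀ a b : IrrCharacter Q × RegFun p Q,
      (g a).2.val ((g b).1 : D → ℂ) = a.2.val (b.1 : Q → ℂ) := fun a b => by
    refine RegFun.eq_of_eq a.2 (isClassFunction_descReg f hf hker (isClassFunction_irr _))
      (isClassFunction_irr _) fun y hy => ?_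
    obtain ⟨x, hx, rfl⟩ := exists_regular_preimage f hf hp.out hy
    exact descReg_apply f hker (isClassFunction_irr (inflate f hf b.1)) hx
  refine ⟨g '' L, ⟨?_, ?_⟩, fun F hF h0 x hx => ?_⟩
  · rintro _ ⟨a, ha, rfl⟩
    rw [hval]; exact hL.1 a ha
  · rintro _ ⟨a, ha, rfl⟩ _ ⟨b, hb, rfl⟩ hne
    rw [hval]; exact hL.2 a ha b hb fun e => hne (congrArg g e)
  · rw [← descReg_apply f hker hF hx]
    exact hsep _ (isClassFunction_descReg f hf hker hF) (fun a ha => h0 (g a) ⟨a, ha, rfl⟩) _
      (isPRegular_map f hx)

end CfsgLib.RegCone
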